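/-
The algebra spanned by a normal subgroup of an irreducible linear group is semisimple.
-/
import Cfsg.Agent.Lib.Techniques.AschPrime.Basic

set_option autoImplicit false

namespace CfsgLib.Techniques.AschGen

open Matrix CfsgLib.Techniques.AschPrime
open scoped MatrixGroups

variable {ι : Type} [Fintype ι] [DecidableEq ι] {F : Type*} [Field F]

/-- The algebra spanned by a subgroup. -/
abbrev alg (N : Subgroup (GL ι F)) : Subalgebra F (Matrix ι ι F) := Algebra.adjoin F (Cfsg.Geo.matrixSet N)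

theorem coe_mem_alg {N : Subgroup (GL ι F)} {x : GL ι F} (hx : x ∈ N) : (x : Matrix ι ι F) ∈ alg N :=
  Algebra.subset_adjoin ⟨x, hx, rfl⟩

/-- Conjugation by an invertible matrix as an algebra automorphism. -/
def cnj (g : GL ι F) : Matrix ι ι F ≃ₐ[F] Matrix ι ι F where
  toFun x := (g : Matrix ι ι F) * x * ((g⁻¹ : GL ι F) : Matrix ι ι F)
  invFun x := ((g⁻¹ : GL ι F) : Matrix ι ι F) * x * (g : Matrix ι ι F)
  left_inv x := by simp only [mul_assoc, Units.inv_mul_cancel_left, Units.inv_mul, mul_one]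
  right_inv x := by simp only [mul_assoc, Units.mul_inv_cancel_left, Units.mul_inv, mul_one]
  map_mul' x y := by simp only [mul_assoc, Units.inv_mul_cancel_left]
  map_add' x y := by rw [mul_add, add_mul]
  commutes' c := by
    simp only [Algebra.algebraMap_eq_smul_one, Matrix.mul_smul, Matrix.mul_one, Matrix.smul_mul, Units.mul_inv]

theorem cnj_apply (g : GL ι F) (x : Matrix ι ι F) :
    cnj g x = (g : Matrix ι ι F) * x * ((g⁻¹ : GL ι F) : Matrix ι ι F) := rfl

theorem cnj_symm (g : GL ι F) (x : Matrix ι ι F) : (cnj g).symm x = cnj g⁻¹ x := by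
  rw [cnj_apply, inv_inv]; rfl

theorem cnj_mem_alg {H N : Subgroup (GL ι F)} (hN : NormalisedBy H N) {h : GL ι F} (hh : h ∈ H)
    {x : Matrix ι ι F} (hx : x ∈ alg N) : cnj h x ∈ alg N := by
  have hle : (alg N).map (cnj h).toAlgHom ≤ alg N := by
    rw [AlgHom.map_adjoin]
    refine Algebra.adjoin_le ?_
    rintro _ ⟨_, ⟨y, hy, rfl⟩, rfl⟩
    change cnj h (y : Matrix ι ι F) ∈ alg N
    rw [cnj_apply, ← Units.val_mul, ← Units.val_mul]
    exact coe_mem_alg (hN h hh y hy)
  exact hle ⟨x, hx, rfl⟩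

/-- Translates of a minimal invariant subspace span. -/
theorem exists_simple_span (hι : Nonempty ι) {H N : Subgroup (GL ι F)} (hH : Irr H) (hN : NormalisedBy H N) :
    ∃ T : H → Submodule F (ι → F), iSup T = ⊤ ∧
      ∀ h, Inv N (T h) ∧ ∀ U ≤ T h, U ≠ ⊥ → Inv N U → U = T h := by
  classical
  have hex : ∃ d, ∃ W : Submodule F (ι → F), Module.finrank F W = d ∧ W ≠ ⊥ ∧ Inv N W :=
    ⟨_, ⊤, rfl, top_ne_bot, fun _ _ _ _ => Submodule.mem_top⟩
  obtain ⟨W, hd, hW0, hWinv⟩ := Nat.find_spec hex
  let img : H → Submodule F (ι → F) := fun h => W.map (Matrix.toLin' ((h : GL ι F) : Matrix ι ι F))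
  refine ⟨img, ?_, fun h => ⟨?_, fun U hU hU0 hUinv => ?_⟩⟩
  · have hinv : Inv H (iSup img) := by
      intro g hg v hv
      have hle : (iSup img).map (Matrix.toLin' (g : Matrix ι ι F)) ≤ iSup img := by
        rw [Submodule.map_iSup]
        refine iSup_le fun h => le_iSup_of_le (⟨g, hg⟩ * h) ?_
        change (W.map _).map _ ≤ W.map _
        rw [← Submodule.map_comp, ← Matrix.toLin'_mul, ← Units.val_mul]
        exact le_rfl
      have := hle (Submodule.mem_map_of_mem hv)
      rwa [Matrix.toLin'_apply] at this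
    refine ((irr_iff H).mp hH _ hinv).resolve_left fun h0 => hW0 ?_
    rw [eq_bot_iff, ← h0]
    refine le_trans ?_ (le_iSup img 1)
    intro w hw
    exact ⟨w, hw, by simp⟩
  · rintro x hx _ ⟨w, hw, rfl⟩
    refine ⟨(((h : GL ι F)⁻¹ * x * h : GL ι F) : Matrix ι ι F) *ᵥ w, hWinv _ (hN.inv_mem h.2 hx) w hw, ?_⟩
    rw [Matrix.toLin'_apply, Matrix.toLin'_apply, mulVec_mulVec, mulVec_mulVec, ← Units.val_mul, ← Units.val_mul,
      mul_assoc (h : GL ι F)⁻¹, mul_inv_cancel_left]
  · refine Submodule.eq_of_le_of_finrank_le hU ?_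
    rw [finrank_map_gl, hd]
    exact Nat.find_min' hex ⟨U, rfl, hU0, hUinv⟩

/-- The algebra spanned by a normal subgroup of an irreducible group is semisimple. -/
theorem isSemisimpleRing_alg [Finite F] {H N : Subgroup (GL ι F)} (hH : Irr H) (hN : NormalisedBy H N) :
    IsSemisimpleRing (alg N) := by
  classical
  haveI : Finite (Matrix ι ι F) := Module.finite_of_finite F
  haveI : Finite (alg N) := Subtype.finite
  rw [IsArtinianRing.isSemisimpleRing_iff_jacobson]
  have hnil : IsNilpotent (Ideal.jacobson (⊥ : Ideal (alg N))) := IsArtinianRing.isNilpotent_jacobson_bot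
  rw [Ideal.jacobson_bot] at hnil
  set J := Ring.jacobson (alg N) with hJ
  obtain ⟨k, hk⟩ := hnil
  have hpow : ∀ j ∈ J, j ^ k = 0 := fun j hj => by
    have h := Ideal.pow_mem_pow hj k
    rw [hk] at h
    exact h
  rcases isEmpty_or_nonempty ι with hι | hι
  · exact eq_bot_iff.mpr fun j _ => Subtype.ext (Matrix.ext fun a => isEmptyElim a)
  obtain ⟨T, hTtop, hT⟩ := exists_simple_span hι hH hN
  have hvstab : ∀ (h : H) (a : alg N), ∀ w ∈ T h, (a : Matrix ι ι F) *ᵥ w ∈ T h := by
    intro h a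
    refine Algebra.adjoin_induction (p := fun r _ => ∀ w ∈ T h, r *ᵥ w ∈ T h) ?_ ?_ ?_ ?_ a.2
    · rintro _ ⟨y, hy, rfl⟩ w hw
      exact (hT h).1 y hy w hw
    · intro c w hw
      rw [Algebra.algebraMap_eq_smul_one, Matrix.smul_mulVec, one_mulVec]
      exact (T h).smul_mem c hw
    · intro x y _ _ hx hy w hw
      rw [add_mulVec]
      exact (T h).add_mem (hx w hw) (hy w hw)
    · intro x y _ _ hx hy w hw
      rw [← mulVec_mulVec]
      exact hx _ (hy w hw)
  rw [eq_bot_iff]
  intro j hj
  refine Subtype.ext (Matrix.toLin'.injective (LinearMap.ext fun v => ?_))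
  have hv : v ∈ iSup T := by rw [hTtop]; exact Submodule.mem_top
  induction hv using Submodule.iSup_induction' with
  | mem h w hw =>
    let ev : alg N →ₗ[F] (ι → F) :=
      { toFun := fun a => (a : Matrix ι ι F) *ᵥ w
        map_add' := fun a b => by simp [add_mulVec]
        map_smul' := fun c a => by simp [Matrix.smul_mulVec] }
    let U : Submodule F (ι → F) := (J.restrictScalars F).map ev
    have hUT : U ≤ T h := by rintro _ ⟨a, -, rfl⟩; exact hvstab h a w hw
    have hUinv : Inv N U := by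
      rintro x hx _ ⟨a, ha, rfl⟩
      exact ⟨⟨_, coe_mem_alg hx⟩ * a, J.mul_mem_left _ ha, (mulVec_mulVec _ _ _).symm⟩
    have hw0 : U = ⊥ := by
      by_contra hU0
      have hUeq := (hT h).2 U hUT hU0 hUinv
      obtain ⟨a, ha, haw⟩ : w ∈ U := by rw [hUeq]; exact hw
      have hap : ∀ m : ℕ, ((a ^ m : alg N) : Matrix ι ι F) *ᵥ w = w := by
        intro m
        induction m with
        | zero => simp
        | succ m ih =>
          rw [pow_succ, MulMemClass.coe_mul, ← mulVec_mulVec]
          change _ *ᵥ ev a = w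
          rw [haw, ih]
      have h0 := hap k
      rw [hpow a ha] at h0
      apply hU0
      rw [eq_bot_iff]
      rintro _ ⟨b, -, rfl⟩
      rw [Submodule.mem_bot]
      change (b : Matrix ι ι F) *ᵥ w = 0
      rw [← h0]
      simp
    have : ev j = 0 := by
      have h1 : ev j ∈ U := ⟨j, hj, rfl⟩
      rwa [hw0, Submodule.mem_bot] at h1
    simpa [ev, Matrix.toLin'_apply] using this
  | zero => simp
  | add a b _ _ ha hb => simp only [map_add, ha, hb]

end CfsgLib.Techniques.AschGen
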