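/-
Clifford's theorem in arbitrary degree: a decomposition, an extension field, or a Kronecker form.
-/
import Cfsg.Agent.Lib.Techniques.AschGen.Algebra
import Cfsg.Agent.Lib.Techniques.AschPrime.Clifford
import Cfsg.Agent.Lib.Techniques.AschPrime.Subfield

set_option autoImplicit false

namespace CfsgLib.Techniques.AschGen

open Matrix CfsgLib.Techniques.AschPrime
open scoped MatrixGroups Kronecker

variable {ι : Type} [Fintype ι] [DecidableEq ι] {F : Type*} [Field F]

/-- The operators of `N` in Kronecker form `a ⊗ 1` with respect to `P` and `e`. -/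
def KronForm (N : Subgroup (GL ι F)) {d k : ℕ} (e : ι ≃ Fin d × Fin k) (P : GL ι F)
    (N₀ : Subgroup (GL (Fin d) F)) : Prop :=
  ∀ x ∈ N, ∃ a ∈ N₀, (x : Matrix ι ι F) = (P : Matrix ι ι F) *
    Matrix.reindex e.symm e.symm ((a : Matrix (Fin d) (Fin d) F) ⊗ₖ (1 : Matrix (Fin k) (Fin k) F)) *
      ((P⁻¹ : GL ι F) : Matrix ι ι F)

theorem exists_field_prime_sub [Fintype F] [Nonempty ι] {N H : Subgroup (GL ι F)} {f : ℕ} (hf : 1 < f)
    {K : Subalgebra F (Matrix ι ι F)} (hK : Cfsg.Geo.IsFieldSubalgebra f K)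
    (hnorm : ∀ h ∈ H, ∀ x ∈ K, cnj h x ∈ K) :
    ∃ (r : ℕ) (K' : Subalgebra F (Matrix ι ι F)), r.Prime ∧ Cfsg.Geo.IsFieldSubalgebra r K' ∧
      H ≤ Cfsg.Geo.subalgebraNormalizer K' ∧ ∀ x ∈ K', x ∈ K := by
  classical
  obtain ⟨r, hr, u, hu⟩ := Nat.exists_prime_and_dvd (show f ≠ 1 by omega)
  letI : CommRing K := { (inferInstance : Ring K) with mul_comm := fun a b => Subtype.ext (hK.comm _ a.2 _ b.2) }
  haveI : Finite (Matrix ι ι F) := Module.finite_of_finite F
  haveI : Finite K := Subtype.finite
  haveI : Nontrivial K := ⟨⟨0, 1, fun h => zero_ne_one (α := Matrix ι ι F) (congrArg Subtype.val h)⟩⟩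
  haveI : NoZeroDivisors K := ⟨fun {a b} hab => by
    by_contra hcon
    rw [not_or] at hcon
    obtain ⟨y, hy, hay⟩ := hK.inv a a.2 fun h => hcon.1 (Subtype.ext h)
    apply hcon.2
    apply Subtype.ext
    have hab' : (a : Matrix ι ι F) * b = 0 := congrArg Subtype.val hab
    have hya : y * (a : Matrix ι ι F) = 1 := by rw [← hK.comm _ a.2 y hy]; exact hay
    change (b : Matrix ι ι F) = 0
    rw [← one_mul (b : Matrix ι ι F), ← hya, mul_assoc, hab', mul_zero]⟩
  haveI : IsDomain K := NoZeroDivisors.to_isDomain _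
  haveI : Fintype K := Fintype.ofFinite _
  obtain ⟨p, hchar⟩ := CharP.exists F
  have hp : p.Prime := CharP.char_is_prime F p
  haveI : Fact p.Prime := ⟨hp⟩
  obtain ⟨e, -, he⟩ := FiniteField.card F p
  haveI : CharP K p := charP_of_injective_algebraMap (FaithfulSMul.algebraMap_injective F K) p
  haveI : ExpChar K p := ExpChar.prime hp
  let q : ℕ := p ^ ((e : ℕ) * r)
  have hKcard : Fintype.card K = p ^ ((e : ℕ) * f) := by
    rw [← Nat.card_eq_fintype_card, Module.natCard_eq_pow_finrank (K := F) (V := K), hK.finrank_eq,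
      Nat.card_eq_fintype_card, he, ← pow_mul]
  let K' : Subalgebra F (Matrix ι ι F) :=
    { carrier := {x | x ∈ K ∧ x ^ q = x}
      mul_mem' := fun {x y} hx hy => ⟨K.mul_mem hx.1 hy.1, by
        rw [(show Commute x y from hK.comm x hx.1 y hy.1).mul_pow, hx.2, hy.2]⟩
      one_mem' := ⟨K.one_mem, one_pow _⟩
      add_mem' := fun {x y} hx hy => ⟨K.add_mem hx.1 hy.1, by
        have h := add_pow_expChar_pow (⟨x, hx.1⟩ : K) ⟨y, hy.1⟩ p ((e : ℕ) * r)
        have h' := congrArg Subtype.val h
        simp only [SubmonoidClass.coe_pow, AddMemClass.coe_add] at h'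
        rw [h', hx.2, hy.2]⟩
      zero_mem' := ⟨K.zero_mem, zero_pow (pow_ne_zero _ hp.ne_zero)⟩
      algebraMap_mem' := fun c => ⟨K.algebraMap_mem c, by
        rw [← map_pow]
        congr 1
        have : ∀ m : ℕ, c ^ (p ^ ((e : ℕ) * m)) = c := by
          intro m
          rw [pow_mul, ← he]
          exact FiniteField.pow_card_pow m c
        exact this r⟩ }
  letI : Field K := { (Finite.isDomain_to_isField K).toField with }
  haveI : CharP K p := charP_of_injective_algebraMap (FaithfulSMul.algebraMap_injective F K) p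
  obtain ⟨S, hS, hmem⟩ := exists_subfield_pow (F := K) hp hKcard
    (k := (e : ℕ) * r) ⟨u, by rw [hu, mul_assoc]⟩ (Nat.mul_ne_zero e.ne_zero hr.ne_zero)
  have hSq : ∀ x : S, (x : K) ^ q = x := fun x => by
    haveI : Fintype S := Fintype.ofFinite _
    have h1 := FiniteField.pow_card x
    rw [← Nat.card_eq_fintype_card, hS] at h1
    have := congrArg Subtype.val h1
    rwa [SubmonoidClass.coe_pow] at this
  let φ : K' ≃ S :=
    { toFun := fun x => ⟨⟨x.1, x.2.1⟩, hmem _ (Subtype.ext (by rw [SubmonoidClass.coe_pow]; exact x.2.2))⟩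
      invFun := fun x => ⟨((x : K) : Matrix ι ι F), (x : K).2, by
        have := congrArg Subtype.val (hSq x)
        rwa [SubmonoidClass.coe_pow] at this⟩
      left_inv := fun x => rfl
      right_inv := fun x => rfl }
  refine ⟨r, K', hr, ⟨fun x hx y hy => hK.comm x hx.1 y hy.1, fun x hx hx0 => ?_, ?_⟩, fun h hh x => ?_,
    fun x hx => hx.1⟩
  · obtain ⟨y, hy, hxy⟩ := hK.inv x hx.1 hx0
    refine ⟨y, ⟨hy, ?_⟩, hxy⟩
    have hyx : y * x = 1 := by rw [← hK.comm x hx.1 y hy]; exact hxy
    have h1 : x * y ^ q = 1 := by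
      conv_lhs => rw [← hx.2]
      rw [← (show Commute x y from hK.comm x hx.1 y hy).mul_pow, hxy, one_pow]
    calc y ^ q = (y * x) * y ^ q := by rw [hyx, one_mul]
      _ = y := by rw [mul_assoc, h1, mul_one]
  · have h1 := Module.natCard_eq_pow_finrank (K := F) (V := K')
    rw [Nat.card_congr φ, hS, Nat.card_eq_fintype_card, he, ← pow_mul] at h1
    exact (Nat.eq_of_mul_eq_mul_left e.pos (Nat.pow_right_injective hp.two_le h1)).symm
  · have key : ∀ g ∈ H, ∀ z ∈ K', cnj g z ∈ K' := fun g hg z hz =>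
      ⟨hnorm g hg z hz.1, by rw [← map_pow, hz.2]⟩
    refine ⟨key h hh x, fun hx => ?_⟩
    have := key h⁻¹ (H.inv_mem hh) _ hx
    rwa [cnj_apply, inv_inv, show ((h⁻¹ : GL ι F) : Matrix ι ι F) * ((h : Matrix ι ι F) * x *
      ((h⁻¹ : GL ι F) : Matrix ι ι F)) * (h : Matrix ι ι F) = x by
      simp only [mul_assoc, Units.inv_mul_cancel_left, Units.inv_mul, mul_one]] at this

/-- A scalar matrix commutes with everything; conversely a central element is scalar. -/
theorem central_eq_scalar {D : Type*} [CommRing D] {d : ℕ} [NeZero d] {x : Matrix (Fin d) (Fin d) D}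
    (hx : ∀ y, x * y = y * x) : x = x 0 0 • 1 := by
  refine Matrix.ext fun i j => ?_
  have h1 := congrFun (congrFun (hx (Matrix.single j 0 1)) i) 0
  rw [Matrix.mul_single_apply_same, mul_one] at h1
  by_cases hij : i = j
  · subst hij
    rw [Matrix.single_mul_apply_same, one_mul] at h1
    simp [h1]
  · rw [Matrix.single_mul_apply_of_ne _ _ _ _ _ hij] at h1
    simp [h1, hij]

/-- The central idempotents behind the decomposition into isotypic components. -/
structure IdemData (N : Subgroup (GL ι F)) {t : ℕ} (D : Fin t → Submodule F (ι → F))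
    (ε : Fin t → Matrix ι ι F) : Prop where
  mem : ∀ i, ε i ∈ alg N
  central : ∀ i, ∀ y ∈ alg N, ε i * y = y * ε i
  idem : ∀ i, ε i * ε i = ε i
  mul : ∀ i j, i ≠ j → ε i * ε j = 0
  sum : ∑ i, ε i = 1
  range : ∀ i v, v ∈ D i ↔ ε i *ᵥ v = v
  primitive : ∀ f ∈ alg N, (∀ y ∈ alg N, f * y = y * f) → f * f = f → ∀ i, ε i * f = 0 ∨ ε i * f = ε i

/-- Clifford's theorem, general degree, with the position relative to the algebra spanned by the subgroup. -/
theorem clifford_gen_alg [Fintype F] [Nonempty ι] {H N : Subgroup (GL ι F)} (hH : Irr H) (hN : NormalisedBy H N) :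
    (∃ (t m : ℕ) (D : Fin t → Submodule F (ι → F)), Cfsg.Geo.IsMDecomposition m D ∧
      H ≤ Cfsg.Geo.decompositionStabilizer D ∧ ∃ ε, IdemData N D ε) ∨
    (∃ (r : ℕ) (K : Subalgebra F (Matrix ι ι F)), r.Prime ∧ Cfsg.Geo.IsFieldSubalgebra r K ∧
      H ≤ Cfsg.Geo.subalgebraNormalizer K ∧ (∀ x ∈ K, x ∈ alg N ∧ ∀ y ∈ alg N, x * y = y * x) ∧
      ∀ x ∈ alg N, (∀ y ∈ alg N, x * y = y * x) → x ≠ 0 → ∃ y, x * y = 1) ∨
    (∃ (d k : ℕ) (e : ι ≃ Fin d × Fin k) (P : GL ι F) (N₀ : Subgroup (GL (Fin d) F)),
      0 < d ∧ 0 < k ∧ AbsIrr N₀ ∧ KronForm N e P N₀ ∧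
        ∀ a ∈ N₀, ∃ x ∈ N, (x : Matrix ι ι F) = (P : Matrix ι ι F) *
          Matrix.reindex e.symm e.symm ((a : Matrix (Fin d) (Fin d) F) ⊗ₖ (1 : Matrix (Fin k) (Fin k) F)) *
            ((P⁻¹ : GL ι F) : Matrix ι ι F)) := by
  classical
  haveI : Finite (Matrix ι ι F) := Module.finite_of_finite F
  haveI : Finite (alg N) := Subtype.finite
  haveI := isSemisimpleRing_alg hH hN
  obtain ⟨t, D, dd, i1, i2, i3, hdd, ⟨φ⟩⟩ := IsSemisimpleRing.exists_algEquiv_pi_matrix_divisionRing_finite F (alg N)
  haveI : ∀ i, Finite (D i) := fun i => Module.finite_of_finite F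
  haveI := hdd
  have hDcomm : ∀ i (a b : D i), a * b = b * a := fun i a b => by
    letI := littleWedderburn (D i)
    exact mul_comm a b
  -- centrality passes through conjugation
  have hσ : ∀ h ∈ H, ∀ x ∈ alg N, (∀ y ∈ alg N, x * y = y * x) → ∀ y ∈ alg N, cnj h x * y = y * cnj h x := by
    intro h hh x hx hc y hy
    have h1 := hc _ (cnj_mem_alg hN (H.inv_mem hh) hy)
    rw [← cnj_symm] at h1
    have := congrArg (cnj h) h1
    rwa [map_mul, map_mul, AlgEquiv.apply_symm_apply] at this
  rcases t with _ | _ | t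
  · exact absurd (φ.injective (Subsingleton.elim (φ 1) (φ 0))) one_ne_zero
  ·
    letI : CommRing (D 0) := { (inferInstance : Ring (D 0)) with mul_comm := hDcomm 0 }
    let π : alg N ≃ₐ[F] Matrix (Fin (dd 0)) (Fin (dd 0)) (D 0) :=
      φ.trans (AlgEquiv.ofBijective (Pi.evalAlgHom F (fun i => Matrix (Fin (dd i)) (Fin (dd i)) (D i)) 0)
        ⟨fun a b hab => funext fun i => by
          obtain rfl : i = 0 := Fin.ext (by omega)
          exact hab,
         fun b => ⟨Pi.single 0 b, by
          change Pi.single (M := fun i => Matrix (Fin (dd i)) (Fin (dd i)) (D i)) 0 b 0 = b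
          simp⟩⟩)
    by_cases hD1 : Module.finrank F (D 0) = 1
    · -- Kronecker form
      right; right
      have hbij : Function.Bijective (Algebra.ofId F (D 0)) :=
        ⟨(algebraMap F (D 0)).injective, fun a => by
          obtain ⟨c, hc⟩ := (finrank_eq_one_iff_of_nonzero' (1 : D 0) one_ne_zero).mp hD1 a
          exact ⟨c, by rw [← hc, Algebra.smul_def, mul_one]; rfl⟩⟩
      let ρ : alg N ≃ₐ[F] Matrix (Fin (dd 0)) (Fin (dd 0)) F :=
        π.trans (AlgEquiv.ofBijective (Algebra.ofId F (D 0)) hbij).symm.mapMatrix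
      set d := dd 0 with hd
      haveI : NeZero d := hdd 0
      let E : Fin d → Fin d → Matrix ι ι F := fun i j => (ρ.symm (Matrix.single i j 1) : Matrix ι ι F)
      have hEmul : ∀ i j l, E i j * E j l = E i l := fun i j l => by
        simp only [E, ← MulMemClass.coe_mul, ← map_mul, Matrix.single_mul_single_same, mul_one]
      have hEne : ∀ i j l m, j ≠ l → E i j * E l m = 0 := fun i j l m hjl => by
        simp only [E, ← MulMemClass.coe_mul, ← map_mul, Matrix.single_mul_single_of_ne _ _ _ _ hjl, map_zero,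
          ZeroMemClass.coe_zero]
      have hEsum : ∑ i, E i i = 1 := by
        simp only [E, ← AddSubmonoidClass.coe_finsetSum, ← map_sum, Matrix.sum_single_one, map_one, OneMemClass.coe_one]
      let U : Submodule F (ι → F) := LinearMap.range (Matrix.toLin' (E 0 0))
      let k := Module.finrank F U
      let b : Module.Basis (Fin k) F U := Module.finBasis F U
      have hfix : ∀ l, E 0 0 *ᵥ (b l : ι → F) = b l := fun l => by
        obtain ⟨v, hv⟩ := (b l).2
        rw [Matrix.toLin'_apply] at hv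
        rw [← hv, mulVec_mulVec, hEmul]
      let w : Fin d × Fin k → ι → F := fun il => E il.1 0 *ᵥ (b il.2 : ι → F)
      have hEw : ∀ i j il, E i j *ᵥ w il = if il.1 = j then w (i, il.2) else 0 := by
        intro i j il
        simp only [w, mulVec_mulVec]
        split_ifs with h
        · rw [h, hEmul]
        · rw [hEne _ _ _ _ (Ne.symm h), zero_mulVec]
      have hw0 : ∀ l, w (0, l) = b l := hfix
      have hli : LinearIndependent F w := by
        rw [Fintype.linearIndependent_iff]
        intro c hc il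
        have h1 := congrArg (E 0 il.1 *ᵥ ·) hc
        simp only [Matrix.mulVec_sum, mulVec_smul, hEw, mulVec_zero, smul_ite, smul_zero] at h1
        rw [Fintype.sum_prod_type, Finset.sum_comm] at h1
        simp only [Finset.sum_ite_eq', Finset.mem_univ, if_true, hw0] at h1
        have h2 : ∑ l, c (il.1, l) • b l = 0 := Subtype.ext (by simpa using h1)
        exact Fintype.linearIndependent_iff.mp b.linearIndependent _ h2 il.2
      have hspan : ⊤ ≤ Submodule.span F (Set.range w) := by
        intro v _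
        have hv : v = ∑ i, E i 0 *ᵥ (E 0 i *ᵥ v) := by
          simp only [mulVec_mulVec, hEmul, ← Matrix.sum_mulVec, hEsum, one_mulVec]
        rw [hv]
        refine Submodule.sum_mem _ fun i _ => ?_
        have hu : E 0 i *ᵥ v ∈ U := ⟨E 0 i *ᵥ v, by rw [Matrix.toLin'_apply, mulVec_mulVec, hEmul]⟩
        have h1 := congrArg (fun z : U => (z : ι → F)) (b.sum_repr ⟨_, hu⟩)
        simp only [Submodule.coe_sum, Submodule.coe_smul] at h1
        rw [← h1, Matrix.mulVec_sum]
        refine Submodule.sum_mem _ fun l _ => ?_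
        rw [mulVec_smul]
        exact Submodule.smul_mem _ _ (Submodule.subset_span ⟨(i, l), rfl⟩)
      let bb : Module.Basis (Fin d × Fin k) F (ι → F) := Module.Basis.mk hli hspan
      have hcard : Fintype.card ι = Fintype.card (Fin d × Fin k) := by
        rw [← Module.finrank_pi F, Module.finrank_eq_card_basis bb]
      let e : ι ≃ Fin d × Fin k := Fintype.equivOfCardEq hcard
      let C : Matrix ι ι F := Matrix.of fun a i => w (e i) a
      have hCdet : IsUnit C.det := by
        rw [← Matrix.isUnit_iff_isUnit_det, ← Matrix.linearIndependent_cols_iff_isUnit]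
        exact hli.comp e e.injective
      let P : GL ι F := Matrix.GeneralLinearGroup.mk'' C hCdet
      have hPcol : ∀ i, (P : Matrix ι ι F) *ᵥ Pi.single i 1 = w (e i) := fun i => by
        funext a
        change (C *ᵥ Pi.single i 1) a = _
        simp [C]
      let ψ : N →* GL (Fin d) F := Units.map ρ.toMulEquiv.toMonoidHom |>.comp
        { toFun := fun x : N => (⟨⟨_, coe_mem_alg x.2⟩, ⟨_, coe_mem_alg (N.inv_mem x.2)⟩,
            Subtype.ext (Units.mul_inv (x : GL ι F)), Subtype.ext (Units.inv_mul (x : GL ι F))⟩ : (alg N)ˣ)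
          map_one' := Units.ext (Subtype.ext rfl)
          map_mul' := fun x y => Units.ext (Subtype.ext rfl) }
      have hψ : ∀ x : N, (ψ x : Matrix (Fin d) (Fin d) F) = ρ ⟨_, coe_mem_alg x.2⟩ := fun x => rfl
      refine ⟨d, k, e, P, ψ.range, Nat.pos_of_ne_zero (NeZero.ne d), ?_, ⟨fun W hW => ?_, fun M hM => ?_⟩,
        (fun (hs : ∀ x (hx : x ∈ N), (x : Matrix ι ι F) = (P : Matrix ι ι F) *
            Matrix.reindex e.symm e.symm ((ψ ⟨x, hx⟩ : Matrix (Fin d) (Fin d) F) ⊗ₖ (1 : Matrix (Fin k) (Fin k) F)) *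
              ((P⁻¹ : GL ι F) : Matrix ι ι F)) =>
          ⟨fun x hx => ⟨ψ ⟨x, hx⟩, ⟨_, rfl⟩, hs x hx⟩, by
            rintro _ ⟨⟨x, hx⟩, rfl⟩
            exact ⟨x, hx, hs x hx⟩⟩) fun x hx => ?_⟩
      · rcases Nat.eq_zero_or_pos k with h0 | h0
        · have : 0 < Fintype.card ι := Fintype.card_pos
          rw [hcard, Fintype.card_prod, Fintype.card_fin, Fintype.card_fin, h0, mul_zero] at this
          omega
        · exact h0
      · -- irreducible
        have hall : ∀ (A : alg N), ∀ v ∈ W, (ρ A) *ᵥ v ∈ W := by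
          intro A
          refine Algebra.adjoin_induction (p := fun r hr => ∀ v ∈ W, (ρ ⟨r, hr⟩) *ᵥ v ∈ W) ?_ ?_ ?_ ?_ A.2
          · rintro _ ⟨y, hy, rfl⟩ v hv
            have := hW _ ⟨ψ ⟨y, hy⟩, ⟨_, rfl⟩, rfl⟩ (Submodule.mem_map_of_mem hv)
            rwa [Matrix.toLin'_apply] at this
          · intro c v hv
            rw [show (⟨algebraMap F (Matrix ι ι F) c, Subalgebra.algebraMap_mem _ c⟩ : alg N) = algebraMap F _ c from rfl,
              ρ.commutes, Algebra.algebraMap_eq_smul_one, Matrix.smul_mulVec, one_mulVec]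
            exact W.smul_mem c hv
          · intro y z hy hz h1 h2 v hv
            rw [show (⟨y + z, add_mem hy hz⟩ : alg N) = ⟨y, hy⟩ + ⟨z, hz⟩ from rfl, map_add, add_mulVec]
            exact W.add_mem (h1 v hv) (h2 v hv)
          · intro y z hy hz h1 h2 v hv
            rw [show (⟨y * z, mul_mem hy hz⟩ : alg N) = ⟨y, hy⟩ * ⟨z, hz⟩ from rfl, map_mul, ← mulVec_mulVec]
            exact h1 _ (h2 v hv)
        refine or_iff_not_imp_left.mpr fun hne => ?_
        obtain ⟨v, hv, hv0⟩ := Submodule.exists_mem_ne_zero_of_ne_bot hne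
        obtain ⟨j, hj⟩ := Function.ne_iff.mp hv0
        rw [eq_top_iff]
        intro u _
        rw [pi_eq_sum_univ u]
        refine Submodule.sum_mem _ fun i _ => W.smul_mem _ ?_
        have := hall (ρ.symm (Matrix.single i j (v j)⁻¹)) v hv
        rw [AlgEquiv.apply_symm_apply, Matrix.single_mulVec, inv_mul_cancel₀ hj] at this
        have e1 : (fun j : Fin d => if i = j then (1 : F) else 0) = Function.update (0 : Fin d → F) i 1 := by
          funext a
          by_cases h : i = a
          · subst h; simp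
          · simp [h, Ne.symm h]
        rw [e1]
        exact this
      · -- trivial centraliser
        have hall : ∀ (A : alg N), M * ρ A = ρ A * M := by
          intro A
          refine Algebra.adjoin_induction (p := fun r hr => M * ρ ⟨r, hr⟩ = ρ ⟨r, hr⟩ * M) ?_ ?_ ?_ ?_ A.2
          · rintro _ ⟨y, hy, rfl⟩
            exact hM _ ⟨ψ ⟨y, hy⟩, ⟨_, rfl⟩, rfl⟩
          · intro c
            rw [show (⟨algebraMap F (Matrix ι ι F) c, Subalgebra.algebraMap_mem _ c⟩ : alg N) = algebraMap F _ c from rfl,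
              ρ.commutes]
            exact (Algebra.commutes c M).symm
          · intro y z hy hz h1 h2
            rw [show (⟨y + z, add_mem hy hz⟩ : alg N) = ⟨y, hy⟩ + ⟨z, hz⟩ from rfl, map_add, mul_add, add_mul, h1, h2]
          · intro y z hy hz h1 h2
            rw [show (⟨y * z, mul_mem hy hz⟩ : alg N) = ⟨y, hy⟩ * ⟨z, hz⟩ from rfl, map_mul, ← mul_assoc, h1,
              mul_assoc, h2, mul_assoc]
        exact ⟨_, central_eq_scalar fun y => by simpa using hall (ρ.symm y)⟩
      · -- the shape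
        set a := (ψ ⟨x, hx⟩ : Matrix (Fin d) (Fin d) F) with ha
        have hact : ∀ j l, (x : Matrix ι ι F) *ᵥ w (j, l) = ∑ i, a i j • w (i, l) := by
          intro j l
          have h1 : (⟨_, coe_mem_alg hx⟩ : alg N) * ρ.symm (Matrix.single j 0 1) =
              ∑ i, a i j • ρ.symm (Matrix.single i 0 1) := by
            apply ρ.injective
            simp only [map_mul, map_sum, map_smul, AlgEquiv.apply_symm_apply]
            rw [← hψ ⟨x, hx⟩, ← ha]
            refine Matrix.ext fun p q => ?_
            rw [Matrix.sum_apply]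
            by_cases hq : q = 0
            · subst hq
              rw [Matrix.mul_single_apply_same]
              simp [Matrix.single_apply]
            · rw [Matrix.mul_single_apply_of_ne _ _ _ _ _ hq]
              simp [Matrix.single_apply, Ne.symm hq]
          have h2 := congrArg Subtype.val h1
          simp only [MulMemClass.coe_mul, AddSubmonoidClass.coe_finsetSum, SetLike.val_smul] at h2
          simp only [w, mulVec_mulVec, E]
          rw [h2, Matrix.sum_mulVec]
          simp [Matrix.smul_mulVec]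
        suffices hh : (x : Matrix ι ι F) * (P : Matrix ι ι F) = (P : Matrix ι ι F) *
            Matrix.reindex e.symm e.symm (a ⊗ₖ (1 : Matrix (Fin k) (Fin k) F)) by
          rw [← hh, Units.mul_inv_cancel_right]
        refine Matrix.ext_of_mulVec_single fun i => ?_
        rw [← mulVec_mulVec, hPcol, hact, ← mulVec_mulVec]
        have hcolR : Matrix.reindex e.symm e.symm (a ⊗ₖ (1 : Matrix (Fin k) (Fin k) F)) *ᵥ Pi.single i 1 =
            ∑ i', a i' (e i).1 • Pi.single (e.symm (i', (e i).2)) 1 := by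
          funext z
          simp [Matrix.mulVec, dotProduct, Pi.single_apply, Finset.sum_apply, Matrix.one_apply,
            Equiv.eq_symm_apply, Prod.ext_iff, ite_and]
        rw [hcolR, Matrix.mulVec_sum]
        simp [mulVec_smul, hPcol]
    · -- a field
      right; left
      let K₀ : Subalgebra F (Matrix ι ι F) :=
        ((alg N).val.comp (π.symm.toAlgHom.comp (Matrix.scalarAlgHom (Fin (dd 0)) F))).range
      have hinj : Function.Injective ((alg N).val.comp (π.symm.toAlgHom.comp
          (Matrix.scalarAlgHom (n := Fin (dd 0)) (R := F) (α := D 0)))) := fun a b hab => by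
        haveI : NeZero (dd 0) := hdd 0
        have := π.symm.injective (Subtype.ext hab)
        exact Matrix.scalar_inj.mp this
      haveI : NeZero (dd 0) := hdd 0
      have hf : 1 < Module.finrank F (D 0) := by
        have := Module.finrank_pos (R := F) (M := D 0)
        omega
      have hKchar : ∀ x, x ∈ K₀ ↔ x ∈ alg N ∧ ∀ y ∈ alg N, x * y = y * x := by
        intro x
        constructor
        · rintro ⟨a, rfl⟩
          refine ⟨(π.symm (Matrix.scalar _ a)).2, fun y hy => ?_⟩
          have h1 := congrArg (fun z => π.symm z) ((Matrix.scalar_commute a (fun r => mul_comm a r) (π ⟨y, hy⟩)).eq)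
          simp only [map_mul, AlgEquiv.symm_apply_apply] at h1
          exact congrArg Subtype.val h1
        · rintro ⟨hx, hc⟩
          refine ⟨π ⟨x, hx⟩ 0 0, ?_⟩
          have h1 := central_eq_scalar (x := π ⟨x, hx⟩) fun y => by
            have := congrArg π (Subtype.ext (hc _ (π.symm y).2) :
              (⟨x, hx⟩ : alg N) * π.symm y = π.symm y * ⟨x, hx⟩)
            simpa using this
          change ((π.symm (Matrix.scalar _ (π ⟨x, hx⟩ 0 0))) : Matrix ι ι F) = x
          rw [show Matrix.scalar (Fin (dd 0)) (π ⟨x, hx⟩ 0 0) = π ⟨x, hx⟩ by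
            conv_rhs => rw [h1]
            exact (Matrix.smul_one_eq_diagonal _).symm]
          rw [AlgEquiv.symm_apply_apply]
      suffices hK₀ : Cfsg.Geo.IsFieldSubalgebra (Module.finrank F (D 0)) K₀ ∧
          ∀ h ∈ H, ∀ x ∈ K₀, cnj h x ∈ K₀ by
        obtain ⟨r, K', hr, hK', hle, hsub⟩ := exists_field_prime_sub (N := N) hf hK₀.1 hK₀.2
        refine ⟨r, K', hr, hK', hle, fun x hx => (hKchar x).mp (hsub x hx), fun x hx hc hx0 => ?_⟩
        obtain ⟨y, -, hy⟩ := hK₀.1.inv x ((hKchar x).mpr ⟨hx, hc⟩) hx0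
        exact ⟨y, hy⟩
      refine ⟨⟨?_, ?_, ?_⟩, fun h hh x hx => ?_⟩
      · intro x hx y hy
        exact ((hKchar x).mp hx).2 y ((hKchar y).mp hy).1
      · rintro _ ⟨a, rfl⟩ ha
        letI : DivisionRing (D 0) := inferInstance
        have ha0 : a ≠ 0 := fun h0 => ha (by rw [h0, map_zero])
        letI := (Finite.isDomain_to_isField (D 0)).toField
        refine ⟨_, ⟨a⁻¹, rfl⟩, ?_⟩
        have := congrArg ((alg N).val.comp (π.symm.toAlgHom.comp
          (Matrix.scalarAlgHom (Fin (dd 0)) F))) (mul_inv_cancel₀ ha0)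
        rwa [map_mul, map_one] at this
      · exact ((AlgEquiv.ofInjective _ hinj).toLinearEquiv.finrank_eq).symm
      · obtain ⟨hx, hc⟩ := (hKchar x).mp hx
        exact (hKchar _).mpr ⟨cnj_mem_alg hN hh hx, hσ h hh x hx hc⟩
  ·
    -- several factors: a decomposition
    left
    haveI : ∀ i, NeZero (dd i) := hdd
    let ε : Fin (t + 1 + 1) → Matrix ι ι F := fun i => (φ.symm (Pi.single i 1) : Matrix ι ι F)
    have hεA : ∀ i, ε i ∈ alg N := fun i => (φ.symm _).2
    have hεmul : ∀ i j, i ≠ j → ε i * ε j = 0 := fun i j hij => by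
      simp only [ε, ← MulMemClass.coe_mul, ← map_mul]
      have e : (Pi.single i 1 * Pi.single j 1 : ∀ l, Matrix (Fin (dd l)) (Fin (dd l)) (D l)) = 0 := by
        funext l
        by_cases h : l = i
        · subst h; simp [hij]
        · simp [h]
      simp [e]
    have hεidem : ∀ i, ε i * ε i = ε i := fun i => by
      simp only [ε, ← MulMemClass.coe_mul, ← map_mul, ← Pi.single_mul, mul_one]
    have hεsum : ∑ i, ε i = 1 := by
      simp only [ε, ← AddSubmonoidClass.coe_finsetSum, ← map_sum]
      rw [show ∑ i, Pi.single i (1 : Matrix (Fin (dd i)) (Fin (dd i)) (D i)) = 1 from Finset.univ_sum_single 1,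
        map_one, OneMemClass.coe_one]
    have hεcent : ∀ i, ∀ y ∈ alg N, ε i * y = y * ε i := fun i y hy => by
      have h : Pi.single i (1 : Matrix (Fin (dd i)) (Fin (dd i)) (D i)) * φ ⟨y, hy⟩ = φ ⟨y, hy⟩ * Pi.single i 1 := by
        funext l
        by_cases h : l = i
        · subst h; simp
        · simp [h]
      have h1 := congrArg φ.symm h
      rw [map_mul, map_mul, AlgEquiv.symm_apply_apply] at h1
      exact congrArg Subtype.val h1
    have hεne : ∀ i, ε i ≠ 0 := fun i h0 => by
      have h1 : φ.symm (Pi.single i 1) = 0 := Subtype.ext h0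
      have h2 := congrArg φ h1
      rw [AlgEquiv.apply_symm_apply, map_zero] at h2
      exact one_ne_zero (Pi.single_eq_zero_iff.mp h2)
    -- central idempotents
    have hclass : ∀ f ∈ alg N, (∀ y ∈ alg N, f * y = y * f) → f * f = f →
        ∀ i, ε i * f = 0 ∨ ε i * f = ε i := by
      intro f hf hc hidem i
      letI : CommRing (D i) := { (inferInstance : Ring (D i)) with mul_comm := hDcomm i }
      set z := φ ⟨f, hf⟩ i with hz
      have hzc : z = z 0 0 • 1 := central_eq_scalar fun y => by
        have h1 := congrArg (fun u => φ u i) (Subtype.ext (hc _ (φ.symm (Pi.single i y)).2) :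
          (⟨f, hf⟩ : alg N) * φ.symm (Pi.single i y) = φ.symm (Pi.single i y) * ⟨f, hf⟩)
        simpa [hz] using h1
      have hzi : z * z = z := by
        have h0 : (⟨f, hf⟩ : alg N) * ⟨f, hf⟩ = ⟨f, hf⟩ := Subtype.ext hidem
        have h1 := congrArg (fun u => φ u i) h0
        rw [hz, ← Pi.mul_apply, ← map_mul, h0]
      have h00 : z 0 0 * z 0 0 = z 0 0 := by
        rw [hzc] at hzi
        simpa using congrFun (congrFun hzi 0) 0
      have hprod : φ (φ.symm (Pi.single i 1) * ⟨f, hf⟩) = Pi.single i z := by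
        rw [map_mul, AlgEquiv.apply_symm_apply]
        funext l
        by_cases h : l = i
        · subst h; simp [hz]
        · simp [h]
      rcases eq_or_ne (z 0 0) 0 with h | h
      · left
        rw [hzc, h, zero_smul, Pi.single_zero, ← map_zero φ] at hprod
        exact congrArg Subtype.val (φ.injective hprod)
      · right
        have h1 : z 0 0 = 1 := mul_left_cancel₀ h (h00.trans (mul_one _).symm)
        rw [hzc, h1, one_smul, ← φ.apply_symm_apply (Pi.single i 1)] at hprod
        simpa [ε] using congrArg Subtype.val (φ.injective hprod)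
    have hperm : ∀ h ∈ H, ∀ i, ∃ j, cnj h (ε i) = ε j := by
      intro h hh i
      set f := cnj h (ε i) with hf
      have hfA : f ∈ alg N := cnj_mem_alg hN hh (hεA i)
      have hfc : ∀ y ∈ alg N, f * y = y * f := hσ h hh _ (hεA i) (hεcent i)
      have hfi : f * f = f := by rw [hf, ← map_mul, hεidem]
      have hsum : f = ∑ j, ε j * f := by rw [← Finset.sum_mul, hεsum, one_mul]
      obtain ⟨j, hj⟩ : ∃ j, ε j * f = ε j := by
        by_contra hno
        push Not at hno
        rw [Finset.sum_eq_zero fun j _ => (hclass f hfA hfc hfi j).resolve_right (hno j)] at hsum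
        exact hεne i ((cnj h).injective (hsum.trans (map_zero _).symm))
      refine ⟨j, ?_⟩
      -- pull `ε j` back
      set g := (cnj h).symm (ε j) with hg
      have hgA : g ∈ alg N := by rw [hg, cnj_symm]; exact cnj_mem_alg hN (H.inv_mem hh) (hεA j)
      have hgc : ∀ y ∈ alg N, g * y = y * g := by
        rw [hg, cnj_symm]; exact hσ _ (H.inv_mem hh) _ (hεA j) (hεcent j)
      have hgi : g * g = g := by rw [hg, ← map_mul, hεidem]
      have hgε : g * ε i = g := by
        apply (cnj h).injective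
        rw [map_mul, hg, AlgEquiv.apply_symm_apply, ← hf, hj]
      rcases hclass g hgA hgc hgi i with h0 | h0
      · exfalso
        rw [← hgc _ (hεA i), hgε] at h0
        exact hεne j ((cnj h).symm.injective (h0.trans (map_zero _).symm))
      · rw [← hgc _ (hεA i), hgε] at h0
        rw [hf, ← h0, hg, AlgEquiv.apply_symm_apply]
    let V : Fin (t + 1 + 1) → Submodule F (ι → F) := fun i => LinearMap.range (Matrix.toLin' (ε i))
    have hmemV : ∀ i v, v ∈ V i ↔ ε i *ᵥ v = v := fun i v => by
      constructor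
      · rintro ⟨u, rfl⟩; rw [Matrix.toLin'_apply, mulVec_mulVec, hεidem]
      · intro hv; exact ⟨v, by rw [Matrix.toLin'_apply, hv]⟩
    have hVtop : iSup V = ⊤ := by
      rw [eq_top_iff]
      intro v _
      rw [← one_mulVec v, ← hεsum, Matrix.sum_mulVec]
      exact Submodule.sum_mem _ fun i _ => Submodule.mem_iSup_of_mem i ⟨v, Matrix.toLin'_apply _ _⟩
    have hVind : iSupIndep V := by
      rw [iSupIndep_iff_finsetSum_eq_zero_imp_eq_zero]
      intro s v hv hsum i hi
      have h1 := congrArg (ε i *ᵥ ·) hsum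
      simp only [Matrix.mulVec_sum, mulVec_zero] at h1
      rw [Finset.sum_eq_single i (fun j hj hji => by
        rw [← (hmemV j (v j)).mp (hv j hj), mulVec_mulVec, hεmul i j hji.symm, zero_mulVec])
        (fun h => absurd hi h), (hmemV i _).mp (hv i hi)] at h1
      exact h1
    have hVne : ∀ i, V i ≠ ⊥ := fun i h0 => hεne i (Matrix.toLin'.injective (by
      rw [map_zero]; exact LinearMap.range_eq_bot.mp h0))
    have hmap : ∀ h ∈ H, ∀ i, ∃ j, (V i).map (Matrix.toLin' (h : Matrix ι ι F)) = V j := by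
      intro h hh i
      obtain ⟨j, hj⟩ := hperm h hh i
      refine ⟨j, le_antisymm ?_ ?_⟩
      · rintro _ ⟨v, hv, rfl⟩
        rw [hmemV, ← hj, Matrix.toLin'_apply, cnj_apply, mulVec_mulVec, Units.inv_mul_cancel_right,
          ← mulVec_mulVec, (hmemV i v).mp hv]
      · intro v hv
        refine ⟨((h⁻¹ : GL ι F) : Matrix ι ι F) *ᵥ v, (hmemV i _).mpr ?_, ?_⟩
        · have h1 := congrArg (((h⁻¹ : GL ι F) : Matrix ι ι F) *ᵥ ·) ((hmemV j v).mp hv)
          simp only [← hj, cnj_apply, mulVec_mulVec, ← mul_assoc, Units.inv_mul, one_mul] at h1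
          rw [mulVec_mulVec]; exact h1
        · rw [Matrix.toLin'_apply, mulVec_mulVec, Units.mul_inv, one_mulVec]
    have hsame : ∀ a b, Module.finrank F (V a) = Module.finrank F (V b) := by
      intro a b
      let U : Submodule F (ι → F) := ⨆ h : H, (V a).map (Matrix.toLin' ((h : GL ι F) : Matrix ι ι F))
      have hinv : Inv H U := by
        intro g hg v hv
        have hle : U.map (Matrix.toLin' (g : Matrix ι ι F)) ≤ U := by
          rw [Submodule.map_iSup]
          refine iSup_le fun h => le_iSup_of_le (⟨g, hg⟩ * h) ?_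
          rw [← Submodule.map_comp, ← Matrix.toLin'_mul, ← Units.val_mul]
          exact le_rfl
        have := hle (Submodule.mem_map_of_mem hv)
        rwa [Matrix.toLin'_apply] at this
      have hUtop : U = ⊤ := ((irr_iff H).mp hH _ hinv).resolve_left fun h0 => hVne a (by
        rw [eq_bot_iff, ← h0]
        refine le_trans ?_ (le_iSup _ 1)
        intro v hv
        exact ⟨v, hv, by simp⟩)
      by_contra hcon
      apply hVne b
      refine (hVind b).eq_bot_of_le ?_
      refine le_trans le_top (hUtop.symm.le.trans (iSup_le fun h => ?_))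
      obtain ⟨c, hc⟩ := hmap h h.2 a
      rw [hc]
      refine le_iSup₂_of_le c ?_ le_rfl
      rintro rfl
      exact hcon (by rw [← hc, finrank_map_gl])
    refine ⟨t + 1 + 1, Module.finrank F (V 0), V, ⟨by omega, ?_, fun i => hsame i 0, hVind, hVtop⟩, fun h hh => ?_,
      ε, ⟨hεA, hεcent, hεidem, hεmul, hεsum, hmemV, hclass⟩⟩
    · exact Nat.pos_of_ne_zero fun h0 => hVne 0 (Submodule.finrank_eq_zero.mp h0)
    · choose σ hσ' using hmap h hh
      have hinj : Function.Injective σ := by
        intro i j hij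
        have h2 : V i = V j := Submodule.map_injective_of_injective (toLin'_injective_of_gl h)
          ((hσ' i).trans ((congrArg V hij).trans (hσ' j).symm))
        by_contra hne
        exact hVne i ((hVind i).eq_bot_of_le (h2.le.trans (le_iSup₂_of_le j (Ne.symm hne) le_rfl)))
      exact ⟨Equiv.ofBijective σ (Finite.injective_iff_bijective.mp hinj), fun i => hσ' i⟩

/-- Clifford's theorem, general degree. -/
theorem clifford_gen [Fintype F] [Nonempty ι] {H N : Subgroup (GL ι F)} (hH : Irr H) (hN : NormalisedBy H N) :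
    (∃ (t m : ℕ) (D : Fin t → Submodule F (ι → F)), Cfsg.Geo.IsMDecomposition m D ∧
      H ≤ Cfsg.Geo.decompositionStabilizer D) ∨
    (∃ (r : ℕ) (K : Subalgebra F (Matrix ι ι F)), r.Prime ∧ Cfsg.Geo.IsFieldSubalgebra r K ∧
      H ≤ Cfsg.Geo.subalgebraNormalizer K) ∨
    (∃ (d k : ℕ) (e : ι ≃ Fin d × Fin k) (P : GL ι F) (N₀ : Subgroup (GL (Fin d) F)),
      0 < d ∧ 0 < k ∧ AbsIrr N₀ ∧ KronForm N e P N₀ ∧
        ∀ a ∈ N₀, ∃ x ∈ N, (x : Matrix ι ι F) = (P : Matrix ι ι F) *
          Matrix.reindex e.symm e.symm ((a : Matrix (Fin d) (Fin d) F) ⊗ₖ (1 : Matrix (Fin k) (Fin k) F)) *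
            ((P⁻¹ : GL ι F) : Matrix ι ι F)) := by
  rcases clifford_gen_alg hH hN with ⟨t, m, D, hD, hle, -⟩ | ⟨r, K, hr, hK, hle, -⟩ | h
  · exact Or.inl ⟨t, m, D, hD, hle⟩
  · exact Or.inr (Or.inl ⟨r, K, hr, hK, hle⟩)
  · exact Or.inr (Or.inr h)

end CfsgLib.Techniques.AschGen
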