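/-
A simple socle puts the group in a geometric class (subfield, form) or in the residual class.
-/
import Cfsg.Agent.Lib.Techniques.AschPrime.Cases
import Cfsg.Agent.Lib.Techniques.AschPrime.Forms
import Cfsg.Agent.Lib.Techniques.AschPrime.Subfield

set_option autoImplicit false

namespace CfsgLib.Techniques.AschGen

open Matrix CfsgLib.Techniques.AschPrime
open scoped MatrixGroups

variable {n : ℕ} {F : Type*} [Field F] [Fintype F]

/-- A realisation over a proper subfield gives a subfield member. -/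
theorem exists_member_subfield {H S : Subgroup (GL (Fin n) F)} [Nonempty (Fin n)] (hS : AbsIrr S)
    (hSn : NormalisedBy H S) {F₀ : Subfield F} (hF₀ : F₀ ≠ ⊤)
    (hreal : Cfsg.Geo.RealisableOver F₀ (Cfsg.Geo.matrixSet S)) :
    ∃ M, Cfsg.Geo.InLinearClass n F M ∧ H ≤ M := by
  obtain ⟨B, hB⟩ := hreal
  obtain ⟨F₁, r, hr, hcard, hle⟩ := exists_prime_index F₀ hF₀
  exact ⟨_, Or.inr (Or.inr (Or.inr (Or.inr (Or.inr (Or.inr (Or.inl ⟨F₁, r, B⁻¹, hr, hcard, rfl⟩)))))),
    fun h hh => mem_subfieldSubgroup_of_normalises hS (fun s hs i j => hle (hB _ ⟨s, hs, rfl⟩ i j)) (hSn h hh)⟩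

/-- A fixed symplectic form gives a member. -/
theorem exists_member_symplectic (hn : 3 ≤ n) {H S : Subgroup (GL (Fin n) F)} (hS : AbsIrr S)
    (hSn : NormalisedBy H S) {f : (Fin n → F) → (Fin n → F) → F} (hf : Cfsg.Geo.IsSymplecticForm f)
    (hfix : Cfsg.Geo.FixesForm (Cfsg.Geo.matrixSet S) f) : ∃ M, Cfsg.Geo.InLinearClass n F M ∧ H ≤ M := by
  have heven : Even n := by
    by_contra hne
    exact not_symplectic_of_odd (by rw [Fintype.card_fin]; exact Nat.not_even_iff_odd.mp hne) hf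
  have h4 : 4 ≤ n := by
    obtain ⟨k, hk⟩ := heven
    omega
  exact ⟨_, Or.inr (Or.inr (Or.inr (Or.inr (Or.inr (Or.inr (Or.inr (Or.inr (Or.inr
    (Or.inl ⟨f, hf, heven, h4, rfl⟩))))))))),
    le_similarityGroup (IsSesq.of_bilinear hf.bilinear) hf.nondegenerate hS hSn hfix⟩

/-- A fixed quadratic form gives a member. -/
theorem exists_member_quadratic (hn : 3 ≤ n) {H S : Subgroup (GL (Fin n) F)} (hS : AbsIrr S)
    (hSn : NormalisedBy H S) {Q : (Fin n → F) → F} (hQ : Cfsg.Geo.IsNondegenerateQuadraticForm Q)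
    (hfix : Cfsg.Geo.FixesQuadForm (Cfsg.Geo.matrixSet S) Q) : ∃ M, Cfsg.Geo.InLinearClass n F M ∧ H ≤ M := by
  by_cases h2 : (2 : F) = 0
  · refine exists_member_symplectic hn hS hSn (f := QuadraticMap.polar Q)
      ⟨hQ.polar_bilinear, fun v w => ?_, fun v => by rw [polar_self hQ, h2, zero_mul], hQ.nondegenerate⟩
      fun s hs u v => by simp only [QuadraticMap.polar, ← mulVec_add, hfix s hs]
    rw [QuadraticMap.polar_comm Q v w, eq_neg_iff_add_eq_zero, ← two_mul, h2, zero_mul]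
  · have hodd : Odd (Fintype.card F) := by
      rw [Nat.odd_iff]
      exact FiniteField.odd_card_of_char_ne_two fun h => h2 (by
        haveI := ringChar.charP F
        rw [h] at this
        exact CharP.cast_eq_zero F 2)
    exact ⟨_, Or.inr (Or.inr (Or.inr (Or.inr (Or.inr (Or.inr (Or.inr (Or.inr (Or.inr (Or.inr (Or.inr
      ⟨Q, hQ, hodd, hn, rfl⟩)))))))))), le_quadSimilarityGroup hQ h2 hS hSn hfix⟩

/-- A fixed unitary form gives a member. -/
theorem exists_member_unitary (hn : 3 ≤ n) {H S : Subgroup (GL (Fin n) F)} (hS : AbsIrr S)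
    (hSn : NormalisedBy H S) {σ : F ≃+* F} {f : (Fin n → F) → (Fin n → F) → F}
    (hf : Cfsg.Geo.IsUnitaryForm σ f) (hfix : Cfsg.Geo.FixesForm (Cfsg.Geo.matrixSet S) f) :
    ∃ M, Cfsg.Geo.InLinearClass n F M ∧ H ≤ M :=
  ⟨_, Or.inr (Or.inr (Or.inr (Or.inr (Or.inr (Or.inr (Or.inr (Or.inr (Or.inr (Or.inr (Or.inl
    ⟨σ, f, hf, hn, rfl⟩)))))))))), le_similarityGroup (IsSesq.of_unitary hf) hf.nondegenerate hS hSn hfix⟩

/-- A simple socle: a geometric member or the residual class. -/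
theorem core_member (hn : 3 ≤ n) {H P : Subgroup (GL (Fin n) F)} (hP : CoreData H P) :
    (∃ M, Cfsg.Geo.InLinearClass n F M ∧ H ≤ M) ∨ Cfsg.Geo.InLinearResidualClass H := by
  haveI : Nonempty (Fin n) := ⟨⟨0, by omega⟩⟩
  by_cases hsub : ∃ F₀ : Subfield F, F₀ ≠ ⊤ ∧ Cfsg.Geo.RealisableOver F₀ (Cfsg.Geo.matrixSet P)
  · obtain ⟨F₀, hF₀, hB⟩ := hsub
    exact Or.inl (exists_member_subfield hP.absIrred hP.normal hF₀ hB)
  push Not at hsub
  by_cases hQ : ∃ Q : (Fin n → F) → F, Cfsg.Geo.IsNondegenerateQuadraticForm Q ∧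
      Cfsg.Geo.FixesQuadForm (Cfsg.Geo.matrixSet P) Q
  · obtain ⟨Q, hQ, hfix⟩ := hQ
    exact Or.inl (exists_member_quadratic hn hP.absIrred hP.normal hQ hfix)
  by_cases hS : ∃ f : (Fin n → F) → (Fin n → F) → F, Cfsg.Geo.IsSymplecticForm f ∧
      Cfsg.Geo.FixesForm (Cfsg.Geo.matrixSet P) f
  · obtain ⟨f, hf, hfix⟩ := hS
    exact Or.inl (exists_member_symplectic hn hP.absIrred hP.normal hf hfix)
  by_cases hU : ∃ (σ : F ≃+* F) (f : (Fin n → F) → (Fin n → F) → F), Cfsg.Geo.IsUnitaryForm σ f ∧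
      Cfsg.Geo.FixesForm (Cfsg.Geo.matrixSet P) f
  · obtain ⟨σ, f, hf, hfix⟩ := hU
    exact Or.inl (exists_member_unitary hn hP.absIrred hP.normal hf hfix)
  exact Or.inr ⟨P, ⟨hP.le, hP.normal, hP.perfect, hP.simple, hP.nonabelian, hP.centralizer_scalar, hP.absIrred,
    hsub⟩, hQ, hS, hU⟩

end CfsgLib.Techniques.AschGen
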