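/-
The exponent group of a minimal class two normal subgroup, in any degree.
-/
import Cfsg.Agent.Lib.Techniques.AschPrime.Cases

set_option autoImplicit false

namespace CfsgLib.Techniques.AschGen

open Matrix CfsgLib.Techniques.AschPrime
open scoped MatrixGroups commutatorElement

variable {ι : Type} [Fintype ι] [DecidableEq ι] {F : Type*} [Field F]

/-- A scalar matrix with a given unit. -/
def scal (ι : Type) [Fintype ι] [DecidableEq ι] (c : Fˣ) : GL ι F :=
  Units.map (Matrix.scalar ι : F →+* Matrix ι ι F).toMonoidHom c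

theorem scal_mem (c : Fˣ) : scal ι c ∈ Cfsg.Geo.scalars ι F := ⟨c, rfl⟩

theorem scal_val (c : Fˣ) : (scal ι c : Matrix ι ι F) = (c : F) • 1 := by
  simp [scal, Matrix.smul_one_eq_diagonal]

theorem scal_mul (c d : Fˣ) : scal ι (c * d) = scal ι c * scal ι d := map_mul _ c d

theorem scal_pow (c : Fˣ) (k : ℕ) : scal ι (c ^ k) = scal ι c ^ k := map_pow _ c k

theorem scal_inj [Nonempty ι] {c d : Fˣ} (h : scal ι c = scal ι d) : c = d := by
  have h1 := congrArg (fun u : GL ι F => (u : Matrix ι ι F) (Classical.arbitrary ι) (Classical.arbitrary ι)) h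
  simp only [scal_val] at h1
  exact Units.ext (by simpa using h1)

/-- The output of the group part: an `r`-group with the properties of symplectic type. -/
structure TypeData (H R : Subgroup (GL ι F)) (r : ℕ) : Prop where
  prime : r.Prime
  absIrr : AbsIrr R
  normalised : NormalisedBy H R
  pow_eq_one : ∀ x ∈ R, x ^ (r * Nat.gcd 2 r) = 1
  scalar_mem : ∀ c : Fˣ, c ^ (r * Nat.gcd 2 r) = 1 → scal ι c ∈ R
  twist : ∀ x ∈ R, ∀ y ∈ R, ∃ c : Fˣ, c ^ r = 1 ∧ y * x = scal ι c * x * y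
  symplecticType : Cfsg.Geo.IsSymplecticTypeGroup r R
  root : ∃ c : Fˣ, orderOf c = r

section

variable [Finite F] [Nonempty ι] {H N : Subgroup (GL ι F)}
  (hNH : N ≤ H) (hN : NormalisedBy H N) (hNabs : AbsIrr N) (hN2 : ⁅N, N⁆ ≤ Cfsg.Geo.scalars ι F)
  (hmin : ∀ M ≤ N, NormalisedBy H M → ¬ M ≤ Cfsg.Geo.scalars ι F → M = N)
  (hι : 2 ≤ Fintype.card ι)

include hNabs hι in
theorem not_le_scalars : ¬ N ≤ Cfsg.Geo.scalars ι F := by
  intro hle
  have hinv : Inv N (Submodule.span F {(Pi.single (Classical.arbitrary ι) 1 : ι → F)}) := by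
    intro h hh w hw
    obtain ⟨c, hc⟩ := (Cfsg.Geo.mem_scalars_iff h).mp (hle hh)
    rw [hc, Matrix.smul_mulVec, one_mulVec]
    exact Submodule.smul_mem _ _ hw
  have hne : (Pi.single (Classical.arbitrary ι) 1 : ι → F) ≠ 0 := by simp
  rcases (irr_iff N).mp hNabs.1 _ hinv with h | h
  · exact hne (by simpa using h)
  · have h1 := congrArg (fun U : Submodule F (ι → F) => Module.finrank F U) h
    rw [finrank_span_singleton hne, finrank_top, Module.finrank_pi] at h1
    omega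

include hNabs hι in
theorem not_comm : ¬ ∀ x ∈ N, ∀ y ∈ N, x * y = y * x := fun h =>
  not_le_scalars hNabs hι fun x hx => hNabs.mem_scalars fun y hy => h x hx y hy

theorem scalars_mem_of_conj {h x : GL ι F} (hx : x ∈ Cfsg.Geo.scalars ι F) : h * x * h⁻¹ = x := by
  rw [← scalars_comm hx h, mul_inv_cancel_right]

include hN2 in
theorem twist_mem {x y : GL ι F} (hx : x ∈ N) (hy : y ∈ N) :
    ∃ c : Fˣ, y * x = scal ι c * x * y := by
  obtain ⟨c, hc⟩ := hN2 (Subgroup.commutator_mem_commutator hy hx)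
  refine ⟨c, ?_⟩
  rw [show scal ι c = ⁅y, x⁆ from hc, commutatorElement_def]
  group

include hNH hN hNabs hN2 hmin hι in
theorem exists_prime_exponent :
    ∃ r : ℕ, r.Prime ∧ (∀ x ∈ N, ∃ c : Fˣ, x ^ r = scal ι c) ∧
      (∀ x ∈ N, ∀ y ∈ N, ∃ c : Fˣ, c ^ r = 1 ∧ y * x = scal ι c * x * y) := by
  classical
  haveI : Finite (Matrix ι ι F) := Module.finite_of_finite F
  haveI : Finite (GL ι F) := Finite.of_injective _ Units.val_injective
  obtain ⟨x, hx, hxs⟩ := SetLike.not_le_iff_exists.mp (not_le_scalars hNabs hι)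
  obtain ⟨y, r, hy, hys, hr, hyr⟩ : ∃ y r, y ∈ N ∧ y ∉ Cfsg.Geo.scalars ι F ∧ r.Prime ∧
      y ^ r ∈ Cfsg.Geo.scalars ι F := by
    have hex : ∃ k, 0 < k ∧ x ^ k ∈ Cfsg.Geo.scalars ι F :=
      ⟨orderOf x, orderOf_pos x, by rw [pow_orderOf_eq_one]; exact one_mem _⟩
    obtain ⟨hk0, hk⟩ := Nat.find_spec hex
    have hk1 : Nat.find hex ≠ 1 := fun h1 => hxs (by rw [h1, pow_one] at hk; exact hk)
    obtain ⟨r, hr, u, hu⟩ := Nat.exists_prime_and_dvd hk1
    refine ⟨x ^ u, r, N.pow_mem hx u, fun hus => ?_, hr, by rw [← pow_mul, mul_comm, ← hu]; exact hk⟩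
    have hu0 : 0 < u := Nat.pos_of_ne_zero fun h0 => by rw [h0, mul_zero] at hu; omega
    have := Nat.find_min' hex ⟨hu0, hus⟩
    have := Nat.mul_le_mul_right u hr.two_le
    omega
  let M : Subgroup (GL ι F) :=
    { carrier := {x | x ∈ N ∧ x ^ r ∈ Cfsg.Geo.scalars ι F}
      one_mem' := ⟨one_mem _, by rw [one_pow]; exact one_mem _⟩
      inv_mem' := fun {x} hx => ⟨inv_mem hx.1, by rw [inv_pow]; exact inv_mem hx.2⟩
      mul_mem' := fun {x y} hx hy => ⟨mul_mem hx.1 hy.1, by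
        obtain ⟨c, hc⟩ := twist_mem hN2 hx.1 hy.1
        rw [pow_mul_of_twist (scalars_comm (scal_mem c)) hc]
        exact mul_mem (mul_mem (pow_mem (scal_mem c) _) hx.2) hy.2⟩ }
  have hM : M = N := hmin M (fun x hx => hx.1)
    (fun h hh x hx => ⟨hN h hh x hx.1, by rw [conj_pow, scalars_mem_of_conj hx.2]; exact hx.2⟩)
    (fun hle => hys (hle ⟨hy, hyr⟩))
  have hpow : ∀ x ∈ N, ∃ c : Fˣ, x ^ r = scal ι c := fun x hx => by
    have h1 : x ∈ M := by rw [hM]; exact hx
    obtain ⟨c, hc⟩ := h1.2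
    exact ⟨c, hc.symm⟩
  refine ⟨r, hr, hpow, fun a ha b hb => ?_⟩
  obtain ⟨c, hc⟩ := twist_mem hN2 ha hb
  obtain ⟨d, hd⟩ := hpow a ha
  refine ⟨c, scal_inj (ι := ι) ?_, hc⟩
  have e : (b * a * b⁻¹) ^ r = a ^ r := by rw [conj_pow, hd, scalars_mem_of_conj (scal_mem d)]
  rw [hc, mul_inv_cancel_right, (show Commute (scal ι c) a from scalars_comm (scal_mem c) a).mul_pow] at e
  rw [scal_pow, mul_eq_right.mp e]
  exact (map_one _).symm

end

theorem choose_two_mul_gcd {r : ℕ} (hr : r.Prime) : r ∣ r.choose 2 * Nat.gcd 2 r := by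
  rcases hr.eq_two_or_odd' with rfl | hodd
  · exact Dvd.intro_left _ rfl
  · obtain ⟨m, hm⟩ := hodd
    refine dvd_mul_of_dvd_left ⟨m, ?_⟩ _
    rw [Nat.choose_two_right, hm, Nat.add_sub_cancel, show (2 * m + 1) * (2 * m) = 2 * ((2 * m + 1) * m) by ring,
      Nat.mul_div_cancel_left _ two_pos]

theorem twist_choose_eq_one {r : ℕ} (hr : r.Prime) {c : Fˣ} (hc : c ^ r = 1) :
    c ^ (r * Nat.gcd 2 r).choose 2 = 1 := by
  obtain ⟨m, hm⟩ : r ∣ (r * Nat.gcd 2 r).choose 2 := by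
    rcases hr.eq_two_or_odd' with rfl | hodd
    · exact ⟨3, by decide⟩
    · have hg : Nat.gcd 2 r = 1 := (Nat.coprime_two_left.mpr hodd).gcd_eq_one
      have h := choose_two_mul_gcd hr
      rw [hg, mul_one] at h
      rwa [hg, mul_one]
  rw [hm, pow_mul, hc, one_pow]

/-- The group of elements of exponent `r * gcd(2, r)` in the product of `N` with the scalars. -/
def expSubgroup (N : Subgroup (GL ι F)) {r : ℕ} (hr : r.Prime)
    (htw : ∀ x ∈ N, ∀ y ∈ N, ∃ c : Fˣ, c ^ r = 1 ∧ y * x = scal ι c * x * y) : Subgroup (GL ι F) where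
  carrier := {x | x ∈ N ⊔ Cfsg.Geo.scalars ι F ∧ x ^ (r * Nat.gcd 2 r) = 1}
  one_mem' := ⟨one_mem _, one_pow _⟩
  inv_mem' {x} hx := ⟨inv_mem hx.1, by rw [inv_pow, hx.2, inv_one]⟩
  mul_mem' {x y} hx hy := ⟨mul_mem hx.1 hy.1, by
    obtain ⟨s, hs, a, ha, rfl⟩ := Subgroup.mem_sup_of_normal_right.mp hx.1
    obtain ⟨t, ht, b, hb, rfl⟩ := Subgroup.mem_sup_of_normal_right.mp hy.1
    obtain ⟨c, hc, hts⟩ := htw s hs t ht
    have e : t * b * (s * a) = scal ι c * (s * a) * (t * b) := by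
      calc t * b * (s * a) = t * (b * s) * a := by group
        _ = t * s * (b * a) := by rw [scalars_comm hb s]; group
        _ = scal ι c * s * t * (a * b) := by rw [scalars_comm hb a, hts]
        _ = scal ι c * s * (t * a) * b := by group
        _ = scal ι c * (s * a) * (t * b) := by rw [← scalars_comm ha t]; group
    rw [pow_mul_of_twist (scalars_comm (scal_mem c)) e, hx.2, hy.2, mul_one, mul_one, ← scal_pow,
      twist_choose_eq_one hr hc]
    exact map_one _⟩

section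

variable [Finite F] [Nonempty ι] {H N : Subgroup (GL ι F)}
  (hNH : N ≤ H) (hN : NormalisedBy H N) (hNabs : AbsIrr N) (hN2 : ⁅N, N⁆ ≤ Cfsg.Geo.scalars ι F)
  (hmin : ∀ M ≤ N, NormalisedBy H M → ¬ M ≤ Cfsg.Geo.scalars ι F → M = N)
  (hι : 2 ≤ Fintype.card ι)

include hNH hN hNabs hN2 hmin hι in
theorem exists_typeData : ∃ (r : ℕ) (R : Subgroup (GL ι F)), TypeData H R r := by
  classical
  haveI : Finite (Matrix ι ι F) := Module.finite_of_finite F
  haveI : Finite (GL ι F) := Finite.of_injective _ Units.val_injective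
  obtain ⟨r, hr, hpow, htw⟩ := exists_prime_exponent hNH hN hNabs hN2 hmin hι
  have hnc := not_comm hNabs hι
  have hns := not_le_scalars hNabs hι
  set R := expSubgroup N hr htw with hRdef
  have hg0 : r * Nat.gcd 2 r ≠ 0 := Nat.mul_ne_zero hr.ne_zero (Nat.gcd_pos_of_pos_left _ two_pos).ne'
  -- every element is scalable
  have hscale : ∀ x ∈ N, ∃ d : Fˣ, x * scal ι d ∈ R := by
    choose c hc using fun x : N => hpow x x.2
    let E : Subgroup Fˣ :=
      { carrier := {a | ∃ d : Fˣ, a ^ Nat.gcd 2 r = d ^ (r * Nat.gcd 2 r)}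
        one_mem' := ⟨1, by simp⟩
        inv_mem' := fun {a} ⟨d, hd⟩ => ⟨d⁻¹, by rw [inv_pow, hd, inv_pow]⟩
        mul_mem' := fun {a b} ⟨d, hd⟩ ⟨d', hd'⟩ => ⟨d * d', by rw [mul_pow, hd, hd', mul_pow]⟩ }
    have hcmul : ∀ x y : N, ∃ e : Fˣ, e ∈ E ∧ c (x * y) = e * (c x * c y) := by
      intro x y
      obtain ⟨z, hz, hyx⟩ := htw x x.2 y y.2
      refine ⟨z ^ r.choose 2, ⟨1, ?_⟩, scal_inj (ι := ι) ?_⟩
      · obtain ⟨m, hm⟩ := choose_two_mul_gcd hr
        rw [one_pow, ← pow_mul, hm, pow_mul, hz, one_pow]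
      · rw [← hc, Subgroup.coe_mul, pow_mul_of_twist (scalars_comm (scal_mem z)) hyx, hc, hc, scal_mul, scal_mul,
          scal_pow, mul_assoc]
    let φ : N →* Fˣ ⧸ E := MonoidHom.mk' (fun x => QuotientGroup.mk (c x)) fun x y => by
      obtain ⟨e, he, hxy⟩ := hcmul x y
      rw [hxy, QuotientGroup.mk_mul, (QuotientGroup.eq_one_iff e).mpr he, one_mul, QuotientGroup.mk_mul]
    let M : Subgroup (GL ι F) := φ.ker.map N.subtype
    have hMn : NormalisedBy H M := by
      rintro h hh _ ⟨x, hx, rfl⟩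
      refine ⟨⟨_, hN h hh x x.2⟩, ?_, rfl⟩
      have e : c ⟨_, hN h hh x x.2⟩ = c x := scal_inj (ι := ι) (by
        rw [← hc, ← hc]
        change (h * (x : GL ι F) * h⁻¹) ^ r = (x : GL ι F) ^ r
        rw [conj_pow, hc, scalars_mem_of_conj (scal_mem _)])
      rw [SetLike.mem_coe, MonoidHom.mem_ker] at hx ⊢
      change QuotientGroup.mk (c _) = _
      rw [e]
      exact hx
    have hMs : ¬ M ≤ Cfsg.Geo.scalars ι F := by
      intro hle
      apply hnc
      have hker : φ.ker ≤ Subgroup.center N := fun x hx => Subgroup.mem_center_iff.mpr fun y =>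
        Subtype.ext (scalars_comm (hle ⟨x, hx, rfl⟩) (y : GL ι F)).symm
      intro x hx y hy
      exact congrArg Subtype.val (commutative_of_cyclic_center_quotient φ hker (⟨x, hx⟩ : N) ⟨y, hy⟩)
    have hMN := hmin M (Subgroup.map_subtype_le _) hMn hMs
    intro x hx
    obtain ⟨x', hx', e⟩ : x ∈ M := by rw [hMN]; exact hx
    rw [SetLike.mem_coe, MonoidHom.mem_ker] at hx'
    obtain ⟨d, hd⟩ := (QuotientGroup.eq_one_iff (c x')).mp hx'
    refine ⟨d⁻¹, Subgroup.mul_mem_sup hx (scal_mem _), ?_⟩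
    rw [(show Commute x (scal ι d⁻¹) from (scalars_comm (scal_mem _) x).symm).mul_pow, pow_mul x,
      show x = (x' : GL ι F) from e.symm, hc, ← scal_pow, ← scal_pow, ← scal_mul, hd, inv_pow, mul_inv_cancel]
    exact map_one _
  have habs : AbsIrr R := by
    refine ⟨(irr_iff R).mpr fun W hW => (irr_iff N).mp hNabs.1 W fun s hs w hw => ?_, fun M hM => ?_⟩
    · obtain ⟨d, hsa⟩ := hscale s hs
      have h1 := hW _ hsa w hw
      rw [Units.val_mul, scal_val, Matrix.mul_smul, Matrix.mul_one, Matrix.smul_mulVec] at h1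
      exact (Submodule.smul_mem_iff _ d.ne_zero).mp h1
    · refine hNabs.scalar fun s hs => ?_
      obtain ⟨d, hsa⟩ := hscale s hs
      have h1 := hM _ ⟨_, hsa, rfl⟩
      simp only [Units.val_mul, scal_val, Matrix.mul_smul, Matrix.mul_one, Matrix.smul_mul] at h1
      exact smul_right_injective _ d.ne_zero h1
  have hRsc : ∀ c : Fˣ, c ^ (r * Nat.gcd 2 r) = 1 → scal ι c ∈ R := fun c hc =>
    ⟨Subgroup.mem_sup_right (scal_mem c), by rw [← scal_pow, hc]; exact map_one _⟩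
  have htwR : ∀ x ∈ R, ∀ y ∈ R, ∃ c : Fˣ, c ^ r = 1 ∧ y * x = scal ι c * x * y := by
    intro x hx y hy
    obtain ⟨s, hs, a, ha, rfl⟩ := Subgroup.mem_sup_of_normal_right.mp hx.1
    obtain ⟨t, ht, b, hb, rfl⟩ := Subgroup.mem_sup_of_normal_right.mp hy.1
    obtain ⟨c, hc, hts⟩ := htw s hs t ht
    refine ⟨c, hc, ?_⟩
    calc t * b * (s * a) = t * (b * s) * a := by group
      _ = t * s * (b * a) := by rw [scalars_comm hb s]; group
      _ = scal ι c * s * t * (a * b) := by rw [scalars_comm hb a, hts]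
      _ = scal ι c * s * (t * a) * b := by group
      _ = scal ι c * (s * a) * (t * b) := by rw [← scalars_comm ha t]; group
  have hnorm : NormalisedBy H R := by
    intro h hh x hx
    refine ⟨?_, by rw [conj_pow, hx.2, mul_one, mul_inv_cancel]⟩
    obtain ⟨s, hs, a, ha, rfl⟩ := Subgroup.mem_sup_of_normal_right.mp hx.1
    rw [show h * (s * a) * h⁻¹ = h * s * h⁻¹ * (h * a * h⁻¹) by group, scalars_mem_of_conj ha]
    exact Subgroup.mul_mem_sup (hN h hh s hs) ha
  obtain ⟨ζ, hζ, x₀, hx₀, y₀, hy₀, hne⟩ : ∃ c : Fˣ, orderOf c = r ∧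
      ∃ x₀ ∈ R, ∃ y₀ ∈ R, x₀ * y₀ ≠ y₀ * x₀ := by
    push Not at hnc
    obtain ⟨x, hx, y, hy, hxy⟩ := hnc
    obtain ⟨c, hc, hyx⟩ := htw x hx y hy
    haveI : Fact r.Prime := ⟨hr⟩
    refine ⟨c, orderOf_eq_prime hc fun h1 => hxy ?_, ?_⟩
    · rw [h1, show scal ι (1 : Fˣ) = (1 : GL ι F) from map_one _, one_mul] at hyx
      exact hyx.symm
    obtain ⟨d, hd⟩ := hscale x hx
    obtain ⟨d', hd'⟩ := hscale y hy
    refine ⟨_, hd, _, hd', fun he => hxy ?_⟩
    have e1 : ∀ u v : GL ι F, ∀ a b : Fˣ, u * scal ι a * (v * scal ι b) = u * v * (scal ι a * scal ι b) := by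
      intro u v a b
      rw [mul_assoc, ← mul_assoc (scal ι a) v, scalars_comm (scal_mem a) v]; group
    rw [e1, e1, scalars_comm (scal_mem d') (scal ι d)] at he
    exact mul_right_cancel he
  refine ⟨r, R, hr, habs, hnorm, fun x hx => hx.2, hRsc, htwR, ⟨hr, fun x => ?_, fun A hA hAc => ?_, ?_⟩, ζ, hζ⟩
  · rcases hr.eq_two_or_odd' with h2 | hodd
    · exact ⟨2, Subtype.ext (by rw [Subgroup.coe_pow]; subst h2; simpa using x.2.2)⟩
    · refine ⟨1, Subtype.ext ?_⟩
      have h1 := x.2.2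
      rw [(Nat.coprime_two_left.mpr hodd).gcd_eq_one, mul_one] at h1
      rw [Subgroup.coe_pow, pow_one, h1]
      rfl
  · -- characteristic abelian subgroups are central
    have hAle : ∀ a ∈ A, (a : GL ι F) ∈ Cfsg.Geo.scalars ι F := by
      have key : ∀ h ∈ H, ∀ b ∈ A.map R.subtype, h * b * h⁻¹ ∈ A.map R.subtype := by
        rintro h hh _ ⟨b, hb, rfl⟩
        let φ : R ≃* R :=
          { toFun := fun u => ⟨h * u * h⁻¹, hnorm h hh u u.2⟩
            invFun := fun u => ⟨h⁻¹ * u * h, hnorm.inv_mem hh u.2⟩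
            left_inv := fun u => Subtype.ext (show h⁻¹ * (h * u * h⁻¹) * h = u by group)
            right_inv := fun u => Subtype.ext (show h * (h⁻¹ * u * h) * h⁻¹ = u by group)
            map_mul' := fun u v => Subtype.ext (show h * ((u : GL ι F) * v) * h⁻¹ = h * u * h⁻¹ * (h * v * h⁻¹) by group) }
        exact ⟨φ b, by rw [← Subgroup.characteristic_iff_comap_eq.mp hA φ] at hb; exact hb, rfl⟩
      intro a ha
      obtain ⟨s, hs, c, hc, e⟩ := Subgroup.mem_sup_of_normal_right.mp a.2.1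
      by_contra hans
      have hM := hmin ((A.map R.subtype ⊔ Cfsg.Geo.scalars ι F) ⊓ N) inf_le_right
        (fun h hh x hx => ⟨by
          obtain ⟨b, hb, c, hc, rfl⟩ := Subgroup.mem_sup_of_normal_right.mp hx.1
          rw [show h * (b * c) * h⁻¹ = h * b * h⁻¹ * (h * c * h⁻¹) by group, scalars_mem_of_conj hc]
          exact Subgroup.mul_mem_sup (key h hh b hb) hc, hN h hh x hx.2⟩)
        (fun hle => hans (by
          rw [← e]
          refine mul_mem (hle ⟨?_, hs⟩) hc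
          rw [show s = (a : GL ι F) * c⁻¹ by rw [← e, mul_inv_cancel_right]]
          exact Subgroup.mul_mem_sup ⟨a, ha, rfl⟩ (inv_mem hc)))
      apply hnc
      intro x hx y hy
      rw [← hM] at hx hy
      obtain ⟨_, ⟨b, hb, rfl⟩, c, hc, rfl⟩ := Subgroup.mem_sup_of_normal_right.mp hx.1
      obtain ⟨_, ⟨b', hb', rfl⟩, c', hc', rfl⟩ := Subgroup.mem_sup_of_normal_right.mp hy.1
      have hbb : (b : GL ι F) * b' = b' * b :=
        congrArg Subtype.val (congrArg Subtype.val (hAc.is_comm.comm (⟨b, hb⟩ : A) ⟨b', hb'⟩))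
      calc (b : GL ι F) * c * ((b' : GL ι F) * c') = b * (c * b') * c' := by group
        _ = (b : GL ι F) * b' * (c * c') := by rw [scalars_comm hc]; group
        _ = (b' : GL ι F) * b * (c' * c) := by rw [hbb, scalars_comm hc]
        _ = (b' : GL ι F) * (b * c') * c := by group
        _ = (b' : GL ι F) * c' * ((b : GL ι F) * c) := by rw [← scalars_comm hc']; group
    choose u hu using fun a : A => hAle a a.2
    let f : A →* Fˣ := MonoidHom.mk' u fun a b => scal_inj (ι := ι) (by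
      rw [scal_mul]
      change Units.map _ _ = Units.map _ _ * Units.map _ _
      rw [hu, hu, hu]; rfl)
    refine isCyclic_of_injective f fun a b hab => ?_
    have h1 : ((a : R) : GL ι F) = (b : R) := by
      rw [← hu a, ← hu b, show u a = u b from hab]
    exact Subtype.ext (Subtype.ext h1)
  · have hdvd : Monoid.exponent R ∣ r * Nat.gcd 2 r :=
      Monoid.exponent_dvd_of_forall_pow_eq_one fun x => Subtype.ext (by rw [Subgroup.coe_pow, x.2.2]; rfl)
    have hR2 : ¬ ∀ u : R, u ^ 2 = 1 := fun h => hne (by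
      have h1 := h (⟨x₀, hx₀⟩ * ⟨y₀, hy₀⟩)
      have hx1 := h ⟨x₀, hx₀⟩
      have hy1 := h ⟨y₀, hy₀⟩
      rw [sq, mul_eq_one_iff_eq_inv, _root_.mul_inv_rev] at h1
      rw [sq, mul_eq_one_iff_eq_inv] at hx1 hy1
      rw [← hx1, ← hy1] at h1
      exact congrArg Subtype.val h1)
    rcases hr.eq_two_or_odd' with rfl | hodd
    · rw [Nat.gcd_self] at hdvd ⊢
      rcases (Nat.dvd_prime_pow Nat.prime_two).mp (show Monoid.exponent R ∣ 2 ^ 2 from hdvd) with ⟨i, hi, he⟩
      interval_cases i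
      · exact absurd (fun u => by
          have := Monoid.exp_eq_one_iff.mp (by simpa using he)
          exact Subsingleton.elim _ _) hR2
      · exact absurd (fun u => by rw [← show Monoid.exponent R = 2 by simpa using he]; exact Monoid.pow_exponent_eq_one u) hR2
      · simpa using he
    · rw [(Nat.coprime_two_left.mpr hodd).gcd_eq_one, mul_one] at hdvd ⊢
      rcases (Nat.dvd_prime hr).mp hdvd with h1 | h1
      · have := Monoid.exp_eq_one_iff.mp h1
        exact absurd (congrArg Subtype.val (Subsingleton.elim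
          (⟨x₀, hx₀⟩ * ⟨y₀, hy₀⟩ : R) (⟨y₀, hy₀⟩ * ⟨x₀, hx₀⟩))) hne
      · exact h1

end

end CfsgLib.Techniques.AschGen
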