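/-
Monomial coordinates and order of a group of symplectic type containing the roots of unity of its exponent.
-/
import Cfsg.Agent.Lib.Techniques.AschGen.ClassTwoGroup
import Cfsg.Agent.Lib.Techniques.AschPrime.Mono

set_option autoImplicit false

namespace CfsgLib.Techniques.AschGen

open Matrix CfsgLib.Techniques.AschPrime
open scoped MatrixGroups

variable {ι : Type} [Fintype ι] [DecidableEq ι] {F : Type*} [Field F] [Finite F]

omit [Fintype ι] [DecidableEq ι] in
/-- Distinct characters trivial on a normal subgroup are at most as many as its index. -/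
theorem card_range_le_index {X : Type*} [Group X] [Finite X] {Y : Subgroup X} [Y.Normal] {J : Type*} [Group J]
    (Φ : J →* (X →* Fˣ)) (hker : ∀ t, ∀ y ∈ Y, Φ t y = 1) : Nat.card Φ.range ≤ Y.index := by
  classical
  let ψ : Φ.range → (X ⧸ Y →* F) := fun u => (Units.coeHom F).comp (QuotientGroup.lift Y u.1 (by
    obtain ⟨t, ht⟩ := u.2
    intro y hy
    rw [MonoidHom.mem_ker, ← ht]
    exact hker t y hy))
  have hψ : Function.Injective ψ := fun u v h => Subtype.ext (MonoidHom.ext fun x => Units.ext
    (DFunLike.congr_fun h (QuotientGroup.mk x)))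
  haveI : Fintype (X ⧸ Y) := Fintype.ofFinite _
  have hli := (linearIndependent_monoidHom (X ⧸ Y) F).comp ψ hψ
  haveI : Fintype Φ.range := @Fintype.ofFinite _ hli.finite
  have := hli.fintype_card_le_finrank
  rw [Module.finrank_pi, ← Nat.card_eq_fintype_card, ← Nat.card_eq_fintype_card] at this
  exact this

theorem exists_eigenvalue_of_pow_eq_one {k : ℕ} (hk : 0 < k) {ζ : F} (hζ : IsPrimitiveRoot ζ k)
    {W : Type*} [AddCommGroup W] [Module F W] [FiniteDimensional F W] [Nontrivial W] (T : Module.End F W)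
    (hT : T ^ k = 1) : ∃ l : F, T.HasEigenvalue l := by
  have hmd : minpoly F T ∣ ∏ μ ∈ Polynomial.nthRootsFinset k (1 : F), (Polynomial.X - Polynomial.C μ) := by
    rw [← Polynomial.X_pow_sub_one_eq_prod hk hζ]
    refine minpoly.dvd _ _ ?_
    simp only [map_sub, map_pow, Polynomial.aeval_X, map_one]
    rw [hT, sub_self]
  obtain ⟨g, hg, hgd⟩ := WfDvdMonoid.exists_irreducible_factor (minpoly.not_isUnit F T)
    (minpoly.ne_zero (Algebra.IsIntegral.isIntegral T))
  obtain ⟨l, -, hl⟩ := hg.prime.exists_mem_finset_dvd (hgd.trans hmd)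
  refine ⟨l, Module.End.hasEigenvalue_of_isRoot ?_⟩
  have hassoc := hg.associated_of_dvd (Polynomial.irreducible_X_sub_C l) hl
  exact Polynomial.dvd_iff_isRoot.mp (hassoc.symm.dvd.trans hgd)

/-- Monomial coordinates and the order of the group. -/
theorem typeData_basis [Nonempty ι] {H R : Subgroup (GL ι F)} {r : ℕ} (hR : TypeData H R r) {ζ : F}
    (hζ : IsPrimitiveRoot ζ (r * Nat.gcd 2 r)) :
    (∃ B : GL ι F, ∀ s ∈ R, MonoB B (fun a => a ^ (r * Nat.gcd 2 r) = 1) s) ∧
      Nat.card (Subgroup.center R) = r * Nat.gcd 2 r ∧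
      ∃ m : ℕ, Fintype.card ι = r ^ m ∧ Nat.card R = r * Nat.gcd 2 r * r ^ (2 * m) := by
  classical
  haveI : Finite (Matrix ι ι F) := Module.finite_of_finite F
  haveI : Finite (GL ι F) := Finite.of_injective _ Units.val_injective
  haveI : Fact r.Prime := ⟨hR.prime⟩
  set k := r * Nat.gcd 2 r with hkdef
  have hk0 : 0 < k := Nat.mul_pos hR.prime.pos (Nat.gcd_pos_of_pos_left _ two_pos)
  -- the pairing
  have hβ : ∀ y x : R, ∃ c : Fˣ, (y : GL ι F) * x = scal ι c * x * y := fun y x => by
    obtain ⟨c, -, h⟩ := hR.twist x x.2 y y.2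
    exact ⟨c, h⟩
  choose β hβ using hβ
  have huniq : ∀ (y x : R) (c : Fˣ), (y : GL ι F) * x = scal ι c * x * y → c = β y x := fun y x c h =>
    scal_inj (ι := ι) (mul_right_cancel (mul_right_cancel (h.symm.trans (hβ y x))))
  have hcomm_iff : ∀ y x : R, β y x = 1 ↔ y * x = x * y := by
    intro y x
    constructor
    · intro h
      have h1 := hβ y x
      rw [h, show scal ι (1 : Fˣ) = (1 : GL ι F) from map_one _, one_mul] at h1
      exact Subtype.ext h1
    · intro h
      refine (huniq y x 1 ?_).symm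
      rw [show scal ι (1 : Fˣ) = (1 : GL ι F) from map_one _, one_mul]
      exact congrArg Subtype.val h
  have hmul_right : ∀ y a b : R, β y (a * b) = β y a * β y b := fun y a b => (huniq y (a * b) _ (by
    have ha := scalars_comm (scal_mem (ι := ι) (β y b)) (a : GL ι F)
    rw [Subgroup.coe_mul, ← mul_assoc (y : GL ι F), hβ y a, scal_mul]
    calc scal ι (β y a) * (a : GL ι F) * y * b = scal ι (β y a) * a * ((y : GL ι F) * b) := by group
      _ = scal ι (β y a) * a * (scal ι (β y b) * b * y) := by rw [hβ y b]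
      _ = scal ι (β y a) * (a * scal ι (β y b)) * b * y := by group
      _ = scal ι (β y a) * scal ι (β y b) * ((a : GL ι F) * b) * y := by rw [← ha]; group)).symm
  have hmul_left : ∀ y y' x : R, β (y * y') x = β y x * β y' x := fun y y' x => (huniq (y * y') x _ (by
    have ha := scalars_comm (scal_mem (ι := ι) (β y' x)) (y : GL ι F)
    rw [Subgroup.coe_mul, mul_assoc (y : GL ι F), hβ y' x, scal_mul]
    calc (y : GL ι F) * (scal ι (β y' x) * x * y') = (y * scal ι (β y' x)) * x * y' := by group
      _ = scal ι (β y' x) * ((y : GL ι F) * x) * y' := by rw [← ha]; group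
      _ = scal ι (β y' x) * (scal ι (β y x) * x * y) * y' := by rw [hβ y x]
      _ = scal ι (β y' x) * scal ι (β y x) * x * ((y : GL ι F) * y') := by group
      _ = scal ι (β y x) * scal ι (β y' x) * x * ((y : GL ι F) * y') := by
          rw [scalars_comm (scal_mem (ι := ι) (β y x))]
      )).symm
  have hβk : ∀ y x : R, (β y x) ^ k = 1 := by
    intro y x
    obtain ⟨c, hc, h⟩ := hR.twist x x.2 y y.2
    rw [← huniq y x c h, hkdef, pow_mul, hc, one_pow]
  -- the centre
  haveI : NeZero k := ⟨hk0.ne'⟩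
  let emb : rootsOfUnity k F →* R :=
    MonoidHom.mk' (fun u => ⟨scal ι u.1, hR.scalar_mem _ ((mem_rootsOfUnity _ _).mp u.2)⟩)
      fun u v => Subtype.ext (scal_mul _ _)
  have hscC : ∀ c : Fˣ, ∀ hc : c ^ k = 1, (⟨scal ι c, hR.scalar_mem c hc⟩ : R) ∈ Subgroup.center R := fun c hc =>
    Subgroup.mem_center_iff.mpr fun y => Subtype.ext (scalars_comm (scal_mem c) (y : GL ι F)).symm
  have hcenter : Nat.card (Subgroup.center R) = k := by
    have hrange : emb.range = Subgroup.center R := by
      ext x
      constructor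
      · rintro ⟨u, rfl⟩
        exact hscC u.1 ((mem_rootsOfUnity _ _).mp u.2)
      · intro h
        rw [Subgroup.mem_center_iff] at h
        obtain ⟨c, hc⟩ := hR.absIrr.mem_scalars (g := (x : GL ι F)) fun t ht =>
          (congrArg Subtype.val (h ⟨t, ht⟩)).symm
        refine ⟨⟨c, (mem_rootsOfUnity _ _).mpr (scal_inj (ι := ι) ?_)⟩, Subtype.ext hc⟩
        rw [scal_pow, show scal ι c = (x : GL ι F) from hc, hR.pow_eq_one x x.2]
        exact (map_one _).symm
    have hinj : Function.Injective emb := fun u v h => Subtype.ext (scal_inj (ι := ι) (congrArg Subtype.val h))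
    rw [← hrange, ← Nat.card_congr (MonoidHom.ofInjective hinj).toEquiv, hζ.card_rootsOfUnity]
  -- a maximal commutative subgroup
  obtain ⟨A, hA⟩ := (Set.toFinite {A : Subgroup R | Subgroup.center R ≤ A ∧ ∀ a ∈ A, ∀ b ∈ A, a * b = b * a}).exists_maximal
    ⟨Subgroup.center R, le_rfl, fun a ha b _ => (Subgroup.mem_center_iff.mp ha b).symm⟩
  obtain ⟨hZA, hAc⟩ := hA.prop
  have hself : ∀ s : R, (∀ a ∈ A, s * a = a * s) → s ∈ A := by
    intro s hs
    have hsc : ∀ x ∈ Subgroup.closure (insert s (A : Set R)), ∀ y ∈ Subgroup.closure (insert s (A : Set R)),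
        x * y = y * x := by
      have h0 : insert s (A : Set R) ⊆ Subgroup.centralizer (insert s (A : Set R)) := by
        intro x hx
        rw [SetLike.mem_coe, Subgroup.mem_centralizer_iff]
        intro y hy
        rcases hx with rfl | hx <;> rcases hy with rfl | hy
        · rfl
        · exact (hs y hy).symm
        · exact hs x hx
        · exact hAc y hy x hx
      intro x hx y hy
      have h1 := (Subgroup.closure_le _).mpr h0
      have h2 : insert s (A : Set R) ⊆ Subgroup.centralizer {x} := fun z hz => by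
        rw [SetLike.mem_coe, Subgroup.mem_centralizer_singleton_iff]
        exact Subgroup.mem_centralizer_iff.mp (h1 hx) z hz
      exact (Subgroup.mem_centralizer_singleton_iff.mp ((Subgroup.closure_le _).mpr h2 hy)).symm
    exact hA.le_of_ge ⟨hZA.trans (fun a ha => Subgroup.subset_closure (Set.mem_insert_of_mem _ ha)), hsc⟩
      (fun a ha => Subgroup.subset_closure (Set.mem_insert_of_mem _ ha))
      (Subgroup.subset_closure (Set.mem_insert _ _))
  haveI hAn : A.Normal := ⟨fun a ha y => by
    have e : y * a * y⁻¹ = ⟨scal ι (β y a), hR.scalar_mem _ (hβk y a)⟩ * a := by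
      refine Subtype.ext ?_
      simp only [Subgroup.coe_mul, Subgroup.coe_inv]
      rw [hβ y a, mul_inv_cancel_right]
    rw [e]
    exact mul_mem (hZA (hscC _ (hβk y a))) ha⟩
  let Φ : R →* (A →* Fˣ) := MonoidHom.mk' (fun t => MonoidHom.mk' (fun a => β t a) fun a b => hmul_right t a b)
    fun t t' => MonoidHom.ext fun a => hmul_left t t' a
  have hΦker : Φ.ker = A := by
    ext t
    rw [MonoidHom.mem_ker]
    constructor
    · intro h
      exact hself t fun a ha => (hcomm_iff t a).mp (DFunLike.congr_fun h ⟨a, ha⟩)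
    · intro ht
      exact MonoidHom.ext fun a => (hcomm_iff t a).mpr (hAc t ht a a.2)
  -- monomial coordinates
  let ev : A → (ι → F) →ₗ[F] (ι → F) := fun a => Matrix.toLin' (((a : R) : GL ι F) : Matrix ι ι F)
  have hex : ∃ d, ∃ W : Submodule F (ι → F), Module.finrank F W = d ∧ W ≠ ⊥ ∧ ∀ a, ∀ w ∈ W, ev a w ∈ W :=
    ⟨_, ⊤, rfl, top_ne_bot, fun _ _ _ => Submodule.mem_top⟩
  obtain ⟨W, hd, hW0, hWinv⟩ := Nat.find_spec hex
  have hscal : ∀ a : A, ∃ l : F, ∀ w ∈ W, ev a w = l • w := by
    intro a
    haveI : Nontrivial W := Submodule.nontrivial_iff_ne_bot.mpr hW0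
    let T : Module.End F W := (ev a).restrict (hWinv a)
    have hT : T ^ k = 1 := by
      have hpow : ∀ (j : ℕ) (w : W), ((T ^ j) w : ι → F) = ((((a : R) : GL ι F) ^ j : GL ι F) : Matrix ι ι F) *ᵥ (w : ι → F) := by
        intro j
        induction j with
        | zero => intro w; simp
        | succ j ih =>
          intro w
          rw [pow_succ, pow_succ, Units.val_mul, ← mulVec_mulVec, Module.End.mul_apply, ih]
          simp [T, ev, LinearMap.restrict_apply, Matrix.toLin'_apply]
      refine LinearMap.ext fun w => Subtype.ext ?_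
      rw [hpow, hR.pow_eq_one _ (a : R).2, Units.val_one, one_mulVec]
      rfl
    obtain ⟨l, hl⟩ := exists_eigenvalue_of_pow_eq_one hk0 hζ T hT
    obtain ⟨v, hv⟩ := hl.exists_hasEigenvector
    refine ⟨l, ?_⟩
    let U : Submodule F (ι → F) := W ⊓ LinearMap.ker (ev a - l • LinearMap.id)
    have hmemU : ∀ w, w ∈ U ↔ w ∈ W ∧ ev a w = l • w := fun w => by simp [U, sub_eq_zero]
    have hU0 : U ≠ ⊥ := fun h0 => hv.2 (Subtype.ext (by
      have h1 : (v : ι → F) ∈ U := (hmemU _).mpr ⟨v.2, congrArg Subtype.val hv.apply_eq_smul⟩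
      rw [h0, Submodule.mem_bot] at h1
      exact h1))
    have hUinv : ∀ b, ∀ w ∈ U, ev b w ∈ U := by
      intro b w hw
      rw [hmemU] at hw ⊢
      refine ⟨hWinv b w hw.1, ?_⟩
      have hab := congrArg (fun u : R => ((u : GL ι F) : Matrix ι ι F)) (hAc _ a.2 _ b.2)
      simp only [Subgroup.coe_mul, Units.val_mul] at hab
      rw [← map_smul, ← hw.2]
      simp only [ev, Matrix.toLin'_apply, mulVec_mulVec, hab]
    have hUW : U = W := Submodule.eq_of_le_of_finrank_le inf_le_left
      (hd ▸ Nat.find_min' hex ⟨U, rfl, hU0, hUinv⟩)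
    intro w hw
    rw [← hUW, hmemU] at hw
    exact hw.2
  choose χ hχ using hscal
  obtain ⟨v, hv, hv0⟩ := Submodule.exists_mem_ne_zero_of_ne_bot hW0
  have hχk : ∀ a, χ a ^ k = 1 := by
    intro a
    have h1 : ∀ j : ℕ, ((((a : R) : GL ι F) ^ j : GL ι F) : Matrix ι ι F) *ᵥ v = χ a ^ j • v := by
      intro j
      induction j with
      | zero => simp
      | succ j ih =>
        have h2 := hχ a v hv
        simp only [ev, Matrix.toLin'_apply] at h2
        rw [pow_succ, Units.val_mul, ← mulVec_mulVec, h2, mulVec_smul, ih, smul_smul, pow_succ, mul_comm]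
    have h2 := h1 k
    rw [hR.pow_eq_one _ (a : R).2, Units.val_one, one_mulVec] at h2
    exact smul_left_injective F hv0 (h2.symm.trans (one_smul F _).symm)
  let w : R ⧸ A → ι → F := fun q => ((q.out : R) : GL ι F).val *ᵥ v
  have hwne : ∀ q, w q ≠ 0 := fun q => CfsgLib.Transvec.mulVec_ne_zero _ hv0
  have heig : ∀ q, w q ∈ eigen ev fun a => ((β q.out a)⁻¹ : Fˣ) * χ a := by
    intro q
    refine mem_eigen.mpr fun a => ?_
    have e : ((a : R) : GL ι F) * q.out = scal ι (β q.out a)⁻¹ * ((q.out : R) : GL ι F) * a := by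
      have h := hβ q.out a
      calc ((a : R) : GL ι F) * q.out = scal ι (β q.out a)⁻¹ * (scal ι (β q.out a) * a * q.out) := by
            rw [mul_assoc (scal ι (β q.out a)), ← mul_assoc, ← scal_mul, inv_mul_cancel,
              show scal ι (1 : Fˣ) = (1 : GL ι F) from map_one _, one_mul]
        _ = _ := by rw [← h]; group
    have h2 := hχ a v hv
    simp only [ev, Matrix.toLin'_apply] at h2 ⊢
    simp only [w]
    rw [mulVec_mulVec, ← Units.val_mul, e, Units.val_mul, ← mulVec_mulVec, h2, mulVec_smul, Units.val_mul,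
      scal_val, Matrix.smul_mul, Matrix.one_mul, Matrix.smul_mulVec, smul_smul, mul_comm]
  have hdist : Function.Injective fun q : R ⧸ A => fun a : A => (((β q.out a)⁻¹ : Fˣ) : F) * χ a := by
    intro q q' h
    have h1 : Φ q.out = Φ q'.out := MonoidHom.ext fun a => by
      have h2 := congrFun h a
      exact inv_injective (Units.ext (mul_right_cancel₀ (fun h0 => by
        have := hχk a; rw [h0, zero_pow hk0.ne'] at this; exact zero_ne_one this) h2))
    rw [← q.out_eq', ← q'.out_eq']
    refine QuotientGroup.eq.mpr ?_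
    refine (SetLike.ext_iff.mp hΦker _).mp ?_
    rw [MonoidHom.mem_ker, map_mul, map_inv, h1, inv_mul_cancel]
  haveI : Fintype (R ⧸ A) := Fintype.ofFinite _
  have hli : LinearIndependent F w :=
    ((eigen_indep ev).comp hdist).linearIndependent _ heig hwne
  have hmove : ∀ u : R, ∀ q, ∃ a : A, (u : GL ι F).val *ᵥ w q = χ a • w ((QuotientGroup.mk (u * q.out) : R ⧸ A)) := by
    intro u q
    obtain ⟨a, ha⟩ := QuotientGroup.mk_out_eq_mul A (u * q.out)
    refine ⟨a⁻¹, ?_⟩
    have h2 := hχ a⁻¹ v hv
    simp only [ev, Matrix.toLin'_apply] at h2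
    simp only [w]
    rw [← mulVec_smul, ← h2, ha, mulVec_mulVec, mulVec_mulVec, ← Units.val_mul, ← Units.val_mul,
      ← Subgroup.coe_mul, ← Subgroup.coe_mul, InvMemClass.coe_inv, mul_inv_cancel_right]
  have hspan : Submodule.span F (Set.range w) = ⊤ := by
    refine ((irr_iff R).mp hR.absIrr.1 _ fun u hu x hx => ?_).resolve_left fun h0 => ?_
    · induction hx using Submodule.span_induction with
      | mem x hx =>
        obtain ⟨q, rfl⟩ := hx
        obtain ⟨a, ha⟩ := hmove ⟨u, hu⟩ q
        rw [show (u : Matrix ι ι F) *ᵥ w q = _ from ha]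
        exact Submodule.smul_mem _ _ (Submodule.subset_span ⟨_, rfl⟩)
      | zero => simp
      | add x y _ _ hx hy => rw [mulVec_add]; exact add_mem hx hy
      | smul c x _ hx => rw [mulVec_smul]; exact Submodule.smul_mem _ _ hx
    · have : w (1 : R ⧸ A) ∈ Submodule.span F (Set.range w) := Submodule.subset_span ⟨_, rfl⟩
      rw [h0, Submodule.mem_bot] at this
      exact hwne _ this
  have hcard : Fintype.card ι = Fintype.card (R ⧸ A) := by
    rw [← Module.finrank_pi F, ← finrank_span_eq_card hli, hspan, finrank_top]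
  let e : ι ≃ R ⧸ A := Fintype.equivOfCardEq hcard
  let C : Matrix ι ι F := Matrix.of fun x i => w (e i) x
  have hCdet : IsUnit C.det := by
    rw [← Matrix.isUnit_iff_isUnit_det, ← Matrix.linearIndependent_cols_iff_isUnit]
    exact hli.comp e e.injective
  -- the order
  haveI : ((Subgroup.center R).subgroupOf A).Normal := inferInstance
  let Ψ : A →* (R →* Fˣ) := MonoidHom.mk' (fun a => MonoidHom.mk' (fun t => β t a) fun t t' => hmul_left t t' a)
    fun a b => MonoidHom.ext fun t => hmul_right t a b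
  have hΨker : Ψ.ker = (Subgroup.center R).subgroupOf A := by
    ext a
    rw [MonoidHom.mem_ker, Subgroup.mem_subgroupOf, Subgroup.mem_center_iff]
    exact ⟨fun h t => (hcomm_iff t a).mp (DFunLike.congr_fun h t),
      fun h => MonoidHom.ext fun t => (hcomm_iff t a).mpr (h t)⟩
  have h1 : Nat.card Φ.range ≤ ((Subgroup.center R).subgroupOf A).index :=
    card_range_le_index Φ fun t a ha => (hcomm_iff t a).mpr (Subgroup.mem_center_iff.mp ha t)
  have h2 : Nat.card Ψ.range ≤ A.index :=
    card_range_le_index Ψ fun a t ht => (hcomm_iff t a).mpr (hAc t ht a a.2)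
  have e1 : A.index = Nat.card Φ.range := by
    have h := Subgroup.index_ker Φ
    rwa [hΦker] at h
  have e2 : ((Subgroup.center R).subgroupOf A).index = Nat.card Ψ.range := by
    have h := Subgroup.index_ker Ψ
    rwa [hΨker] at h
  have heq : ((Subgroup.center R).subgroupOf A).index = A.index := by omega
  -- the index is the degree
  have hn : Fintype.card ι = A.index := by rw [hcard, Subgroup.index_eq_card, Nat.card_eq_fintype_card]
  have hpG : IsPGroup r R := hR.symplecticType.pGroup
  obtain ⟨m, hm⟩ := IsPGroup.index hpG A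
  have horder : ∃ m : ℕ, Fintype.card ι = r ^ m ∧ Nat.card R = k * r ^ (2 * m) := by
    refine ⟨m, hn.trans hm, ?_⟩
    have hZcard : Nat.card ((Subgroup.center R).subgroupOf A) = k := by
      rw [Nat.card_congr (Subgroup.subgroupOfEquivOfLe hZA).toEquiv, hcenter]
    rw [← A.card_mul_index, ← ((Subgroup.center R).subgroupOf A).card_mul_index, hZcard, heq, hm, two_mul, pow_add,
      mul_assoc]
  refine ⟨⟨(Matrix.GeneralLinearGroup.mk'' C hCdet)⁻¹, fun s hs => ?_⟩, hcenter, ?_⟩
  swap
  · exact horder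
  have hcol : ∀ i, C *ᵥ Pi.single i 1 = w (e i) := fun i => by funext x; simp [C]
  let π : Equiv.Perm ι := e.trans ((Equiv.mulLeft (QuotientGroup.mk (⟨s, hs⟩ : R) : R ⧸ A)).trans e.symm)
  choose a ha using fun i => hmove ⟨s, hs⟩ (e i)
  refine ⟨π, fun i => χ (a i), fun i => hχk _, ?_⟩
  set B : GL ι F := (Matrix.GeneralLinearGroup.mk'' C hCdet)⁻¹ with hB
  have hBC : (B⁻¹ : GL ι F).val = C := by rw [hB, inv_inv]; rfl
  refine Matrix.ext_of_mulVec_single fun j => ?_
  have hπ : w (e (π j)) = w (QuotientGroup.mk (⟨s, hs⟩ * (e j).out)) := by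
    simp [π]
  rw [← mulVec_mulVec, hBC, hcol, ← mulVec_mulVec, show (s : Matrix ι ι F) *ᵥ w (e j) = _ from ha j, mulVec_smul,
    ← hπ, ← hcol, ← hBC, mulVec_mulVec, Units.mul_inv, one_mulVec]
  funext x
  simp [Matrix.mulVec, dotProduct, Pi.single_apply]

end CfsgLib.Techniques.AschGen
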