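/-
A minimal class two normal subgroup puts the group in a geometric class.
-/
import Cfsg.Agent.Lib.Techniques.AschGen.ClassTwoBasis
import Cfsg.Agent.Lib.Techniques.AschGen.CoreMember

set_option autoImplicit false

namespace CfsgLib.Techniques.AschGen

open Matrix CfsgLib.Techniques.AschPrime
open scoped MatrixGroups

variable {ι : Type} [Fintype ι] [DecidableEq ι] {F : Type*} [Field F]

/-- An absolutely irreducible finite group fixing the sum of squares of traces has an invariant bilinear form. -/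
theorem exists_invariant_matrix {R : Subgroup (GL ι F)} [Fintype R] (hR : Irr R)
    (hsum : ∑ s : R, ((s : GL ι F) : Matrix ι ι F).trace * ((s : GL ι F) : Matrix ι ι F).trace ≠ 0) :
    ∃ G : Matrix ι ι F, IsUnit G.det ∧ ∀ s ∈ R, (s : Matrix ι ι F)ᵀ * G * (s : Matrix ι ι F) = G := by
  classical
  let E : Matrix ι ι F → Matrix ι ι F := fun X =>
    ∑ s : R, ((s : GL ι F) : Matrix ι ι F)ᵀ * X * ((s : GL ι F) : Matrix ι ι F)
  have hinv : ∀ X, ∀ s ∈ R, (s : Matrix ι ι F)ᵀ * E X * (s : Matrix ι ι F) = E X := by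
    intro X s hs
    simp only [E, Finset.mul_sum, Finset.sum_mul]
    refine Fintype.sum_equiv (Equiv.mulRight (⟨s, hs⟩ : R)) _ _ fun t => ?_
    simp only [Equiv.coe_mulRight, Subgroup.coe_mul, Units.val_mul, Matrix.transpose_mul, mul_assoc]
  obtain ⟨a, b, hX⟩ : ∃ a b, E (Matrix.single a b 1) ≠ 0 := by
    by_contra hno
    push Not at hno
    apply hsum
    simp only [Matrix.trace, Matrix.diag, Finset.sum_mul, Finset.mul_sum]
    rw [Finset.sum_comm]
    refine Finset.sum_eq_zero fun i _ => ?_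
    rw [Finset.sum_comm]
    refine Finset.sum_eq_zero fun j _ => ?_
    have h := congrFun (congrFun (hno i j) i) j
    simp only [E, Matrix.sum_apply, Matrix.zero_apply] at h
    rw [← h]
    refine Finset.sum_congr rfl fun s _ => ?_
    rw [Matrix.mul_apply, Finset.sum_eq_single j (fun x _ hx => by
      rw [Matrix.mul_single_apply_of_ne _ _ _ _ _ hx, zero_mul]) (by simp), Matrix.mul_single_apply_same, mul_one,
      Matrix.transpose_apply]
    exact mul_comm _ _
  refine ⟨E (Matrix.single a b 1), ?_, hinv _⟩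
  rw [isUnit_iff_ne_zero]
  intro h0
  obtain ⟨x, hx0, hx⟩ := Matrix.exists_mulVec_eq_zero_iff.mpr h0
  let W : Submodule F (ι → F) := LinearMap.ker (Matrix.toLin' (E (Matrix.single a b 1)))
  have hW : Inv R W := by
    intro s hs w hw
    simp only [W, LinearMap.mem_ker, Matrix.toLin'_apply] at hw ⊢
    have h1 : (s : Matrix ι ι F)ᵀ *ᵥ (E (Matrix.single a b 1) *ᵥ ((s : Matrix ι ι F) *ᵥ w)) = 0 := by
      rw [mulVec_mulVec, mulVec_mulVec, hinv _ s hs, hw]
    have h2 := congrArg (((s⁻¹ : GL ι F) : Matrix ι ι F)ᵀ *ᵥ ·) h1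
    simp only [mulVec_mulVec, ← Matrix.transpose_mul, Units.mul_inv, Matrix.transpose_one, mulVec_zero] at h2
    rw [← mulVec_mulVec] at h2
    simpa [← mul_assoc, ← Matrix.transpose_mul] using h2
  rcases (irr_iff R).mp hR _ hW with h | h
  · exact hx0 (by
      have : x ∈ W := by simpa [W] using hx
      rwa [h, Submodule.mem_bot] at this)
  · refine hX (Matrix.toLin'.injective ?_)
    rw [map_zero]
    exact LinearMap.ker_eq_top.mp h

variable [Fintype F]

/-- The bilinear form of a matrix. -/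
theorem matForm_bilinear (G : Matrix ι ι F) : Cfsg.Geo.IsBilinearForm fun u v : ι → F => u ⬝ᵥ (G *ᵥ v) where
  add_left x y v := add_dotProduct x y _
  smul_left c x v := by rw [smul_dotProduct, smul_eq_mul]
  add_right v x y := by rw [mulVec_add, dotProduct_add]
  smul_right c v x := by rw [mulVec_smul, dotProduct_smul, smul_eq_mul]

/-- A group of symplectic type in a field without a fourth root of unity fixes a symplectic or quadratic form. -/
theorem exists_member_of_no_root {n : ℕ} (hn : 3 ≤ n) {H R : Subgroup (GL (Fin n) F)} (hR : TypeData H R 2)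
    (hno : ∀ i : F, i ^ 2 ≠ -1) : ∃ M, Cfsg.Geo.InLinearClass n F M ∧ H ≤ M := by
  classical
  haveI : Nonempty (Fin n) := ⟨⟨0, by omega⟩⟩
  haveI : Finite (Matrix (Fin n) (Fin n) F) := Module.finite_of_finite F
  haveI : Finite (GL (Fin n) F) := Finite.of_injective _ Units.val_injective
  haveI : Fintype R := Fintype.ofFinite _
  obtain ⟨c₁, hc₁⟩ := hR.root
  have h2 : (2 : F) ≠ 0 := by
    intro h
    have hc : (c₁ : F) ^ 2 = 1 := by
      rw [← Units.val_pow_eq_pow_val, ← hc₁, pow_orderOf_eq_one, Units.val_one]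
    have hne : (c₁ : F) ≠ 1 := fun h1 => by
      rw [show c₁ = 1 from Units.ext h1, orderOf_one] at hc₁
      omega
    apply hne
    have : ((c₁ : F) - 1) * ((c₁ : F) - 1) = 0 := by linear_combination hc - ((c₁ : F) - 1) * h
    exact sub_eq_zero.mp (mul_self_eq_zero.mp this)
  -- scalars of the group are signs
  have hsign : ∀ s ∈ R, s ∈ Cfsg.Geo.scalars (Fin n) F → ∃ e : F, e * e = 1 ∧ (s : Matrix (Fin n) (Fin n) F) = e • 1 := by
    intro s hs hsc
    obtain ⟨c, rfl⟩ := hsc
    refine ⟨c, ?_, scal_val c⟩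
    have h := hR.pow_eq_one _ hs
    rw [show Units.map (Matrix.scalar (Fin n) : F →+* Matrix (Fin n) (Fin n) F).toMonoidHom c = scal (Fin n) c from rfl,
      ← scal_pow, show scal (Fin n) (c ^ (2 * Nat.gcd 2 2)) = 1 ↔ c ^ (2 * Nat.gcd 2 2) = 1 from
        ⟨fun h => scal_inj (ι := Fin n) (h.trans (map_one _).symm), fun h => by rw [h]; exact map_one _⟩] at h
    have h4 : (c : F) ^ 4 = 1 := by
      rw [← Units.val_pow_eq_pow_val, show c ^ 4 = 1 by simpa using h, Units.val_one]
    rcases mul_eq_zero.mp (show ((c : F) ^ 2 - 1) * ((c : F) ^ 2 + 1) = 0 by linear_combination h4) with h' | h'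
    · rw [← sq]; exact sub_eq_zero.mp h'
    · exact absurd (eq_neg_of_add_eq_zero_left h') (hno c)
  -- the trace of a non-scalar vanishes
  have htr : ∀ s ∈ R, s ∉ Cfsg.Geo.scalars (Fin n) F → (s : Matrix (Fin n) (Fin n) F).trace = 0 := by
    intro s hs hsc
    obtain ⟨t, ht, hts⟩ : ∃ t ∈ R, s * t ≠ t * s := by
      by_contra hno'
      push Not at hno'
      exact hsc (hR.absIrr.mem_scalars hno')
    obtain ⟨c, hc, e⟩ := hR.twist s hs t ht
    have hc1 : (c : F) ≠ 1 := fun h1 => hts (by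
      rw [show c = 1 from Units.ext h1, show scal (Fin n) (1 : Fˣ) = (1 : GL (Fin n) F) from map_one _, one_mul] at e
      exact e.symm)
    have h1 : ((t * s * t⁻¹ : GL (Fin n) F) : Matrix (Fin n) (Fin n) F).trace = (s : Matrix (Fin n) (Fin n) F).trace := by
      rw [Units.val_mul, Matrix.trace_mul_comm, ← Units.val_mul, inv_mul_cancel_left]
    rw [e, mul_inv_cancel_right, Units.val_mul, scal_val, Matrix.smul_mul, one_mul, Matrix.trace_smul, smul_eq_mul] at h1
    have h3 : ((c : F) - 1) * (s : Matrix (Fin n) (Fin n) F).trace = 0 := by linear_combination h1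
    exact (mul_eq_zero.mp h3).resolve_left (sub_ne_zero.mpr hc1)
  obtain ⟨m, hm⟩ := IsPGroup.iff_card.mp (show IsPGroup 2 R from hR.symplecticType.pGroup)
  haveI : Fact (Nat.Prime 2) := ⟨Nat.prime_two⟩
  have hcardF : ((Fintype.card R : ℕ) : F) ≠ 0 := by
    rw [← Nat.card_eq_fintype_card, hm]
    push_cast
    exact pow_ne_zero _ h2
  -- the degree is not zero in the field
  have hnF : (n : F) ≠ 0 := by
    intro h0
    let i₀ : Fin n := Classical.arbitrary _
    let X : Matrix (Fin n) (Fin n) F := ∑ s : R,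
      ((s : GL (Fin n) F) : Matrix (Fin n) (Fin n) F) * Matrix.single i₀ i₀ 1 *
        (((s : GL (Fin n) F)⁻¹ : GL (Fin n) F) : Matrix (Fin n) (Fin n) F)
    obtain ⟨c, hc⟩ := hR.absIrr.scalar (M := X) fun t ht => by
      simp only [X, Finset.mul_sum, Finset.sum_mul]
      refine (Fintype.sum_equiv (Equiv.mulLeft (⟨t, ht⟩ : R)) _ _ fun s => ?_).symm
      simp only [Equiv.coe_mulLeft, Subgroup.coe_mul, Units.val_mul, _root_.mul_inv_rev, mul_assoc, Units.inv_mul,
        mul_one]
    have h1 := congrArg Matrix.trace hc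
    simp only [X, Matrix.trace_sum, Matrix.trace_smul, Matrix.trace_one, Fintype.card_fin, smul_eq_mul, h0,
      mul_zero] at h1
    apply hcardF
    rw [← h1, ← mul_one ((Fintype.card R : ℕ) : F), ← nsmul_one, smul_one_mul, ← Finset.card_univ, ← Finset.sum_const]
    refine Finset.sum_congr rfl fun s _ => ?_
    rw [Matrix.trace_mul_comm, ← mul_assoc, Units.inv_mul, one_mul, Matrix.trace_single_eq_same]
  have hsum : ∑ s : R, ((s : GL (Fin n) F) : Matrix (Fin n) (Fin n) F).trace *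
      ((s : GL (Fin n) F) : Matrix (Fin n) (Fin n) F).trace ≠ 0 := by
    have heach : ∀ s : R, ((s : GL (Fin n) F) : Matrix (Fin n) (Fin n) F).trace *
        ((s : GL (Fin n) F) : Matrix (Fin n) (Fin n) F).trace =
        if (s : GL (Fin n) F) ∈ Cfsg.Geo.scalars (Fin n) F then (n : F) * n else 0 := by
      intro s
      split_ifs with h
      · obtain ⟨e, he, hs⟩ := hsign _ s.2 h
        rw [hs, Matrix.trace_smul, Matrix.trace_one, Fintype.card_fin, smul_eq_mul]
        linear_combination ((n : F) * n) * he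
      · rw [htr _ s.2 h, mul_zero]
    simp only [heach]
    rw [Finset.sum_ite, Finset.sum_const_zero, add_zero, Finset.sum_const, nsmul_eq_mul]
    refine mul_ne_zero ?_ (mul_ne_zero hnF hnF)
    have hdvd : (Finset.univ.filter fun s : R => (s : GL (Fin n) F) ∈ Cfsg.Geo.scalars (Fin n) F).card ∣ 2 ^ m := by
      rw [← hm, ← Fintype.card_subtype, ← Nat.card_eq_fintype_card]
      exact Subgroup.card_subgroup_dvd_card ((Cfsg.Geo.scalars (Fin n) F).subgroupOf R)
    obtain ⟨j, -, hj⟩ := (Nat.dvd_prime_pow Nat.prime_two).mp hdvd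
    rw [hj]
    push_cast
    exact pow_ne_zero _ h2
  obtain ⟨G, hG, hinv⟩ := exists_invariant_matrix hR.absIrr.1 hsum
  -- symmetry
  have hGT : ∀ s ∈ R, (s : Matrix (Fin n) (Fin n) F)ᵀ * Gᵀ * (s : Matrix (Fin n) (Fin n) F) = Gᵀ := fun s hs => by
    have := congrArg Matrix.transpose (hinv s hs)
    simpa [Matrix.transpose_mul, mul_assoc] using this
  obtain ⟨c, hc⟩ := hR.absIrr.scalar (M := G⁻¹ * Gᵀ) fun s hs => by
    have key : ∀ K : Matrix (Fin n) (Fin n) F,
        (s : Matrix (Fin n) (Fin n) F)ᵀ * K * (s : Matrix (Fin n) (Fin n) F) = K →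
        K * (s : Matrix (Fin n) (Fin n) F) = ((s⁻¹ : GL (Fin n) F) : Matrix (Fin n) (Fin n) F)ᵀ * K := by
      intro K hK
      conv_rhs => rw [← hK]
      simp only [← mul_assoc, ← Matrix.transpose_mul, Units.mul_inv, Matrix.transpose_one, one_mul]
    have e1 := key G (hinv s hs)
    have e2 := key Gᵀ (hGT s hs)
    calc G⁻¹ * Gᵀ * (s : Matrix (Fin n) (Fin n) F)
        = G⁻¹ * (((s⁻¹ : GL (Fin n) F) : Matrix (Fin n) (Fin n) F)ᵀ * (G * G⁻¹) * Gᵀ) := by
          rw [mul_nonsing_inv _ hG, mul_one, mul_assoc, e2]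
      _ = G⁻¹ * (((s⁻¹ : GL (Fin n) F) : Matrix (Fin n) (Fin n) F)ᵀ * G) * (G⁻¹ * Gᵀ) := by
          simp only [mul_assoc]
      _ = (s : Matrix (Fin n) (Fin n) F) * (G⁻¹ * Gᵀ) := by
          rw [← e1, ← mul_assoc G⁻¹ G, nonsing_inv_mul _ hG, one_mul]
  have hGc : Gᵀ = c • G := by
    have h := congrArg (G * ·) hc
    simpa [← mul_assoc, mul_nonsing_inv G hG] using h
  have hfix : ∀ s ∈ R, ∀ u v : Fin n → F, ((s : Matrix (Fin n) (Fin n) F) *ᵥ u) ⬝ᵥ
      (G *ᵥ ((s : Matrix (Fin n) (Fin n) F) *ᵥ v)) = u ⬝ᵥ (G *ᵥ v) := fun s hs u v => by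
    rw [mulVec_mulVec, dotProduct_comm, dotProduct_mulVec, ← Matrix.mulVec_transpose, mulVec_mulVec,
      ← mul_assoc, hinv s hs, dotProduct_comm]
  have hswap : ∀ u v : Fin n → F, v ⬝ᵥ (G *ᵥ u) = c * (u ⬝ᵥ (G *ᵥ v)) := fun u v => by
    rw [dotProduct_mulVec, ← Matrix.mulVec_transpose, hGc, Matrix.smul_mulVec, smul_dotProduct, smul_eq_mul,
      dotProduct_comm]
  have hnd : Cfsg.Geo.IsNondegenerateForm fun u v : Fin n → F => u ⬝ᵥ (G *ᵥ v) := by
    intro v hv
    obtain ⟨i, hi⟩ : ∃ i, (G *ᵥ v) i ≠ 0 := by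
      by_contra h
      push Not at h
      exact hv (Matrix.eq_zero_of_mulVec_eq_zero (isUnit_iff_ne_zero.mp hG) (funext h))
    refine ⟨⟨Pi.single i 1, by simpa using hi⟩, ⟨Pi.single i 1, ?_⟩⟩
    have := hswap (Pi.single i 1) v
    change v ⬝ᵥ (G *ᵥ Pi.single i 1) ≠ 0
    rw [this]
    have hc0 : c ≠ 0 := by
      intro h0
      rw [h0, zero_smul] at hGc
      exact hv (Matrix.eq_zero_of_mulVec_eq_zero (isUnit_iff_ne_zero.mp hG) (by
        rw [show G = 0 from Matrix.transpose_eq_zero.mp hGc, zero_mulVec]))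
    exact mul_ne_zero hc0 (by simpa using hi)
  have hcc : c * c = 1 := by
    obtain ⟨i, j, hij⟩ : ∃ i j, G i j ≠ 0 := by
      by_contra h
      push Not at h
      have : G = 0 := Matrix.ext h
      rw [this, det_zero] at hG
      exact not_isUnit_zero hG
    have e1 := congrFun (congrFun hGc i) j
    have e2 := congrFun (congrFun hGc j) i
    rw [Matrix.transpose_apply, Matrix.smul_apply, smul_eq_mul] at e1 e2
    refine mul_right_cancel₀ hij ?_
    rw [one_mul, mul_assoc, ← e1, ← e2]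
  rcases mul_self_eq_one_iff.mp hcc with rfl | rfl
  · refine exists_member_quadratic hn hR.absIrr hR.normalised (Q := fun v => v ⬝ᵥ (G *ᵥ v)) ⟨?_, ?_, ?_⟩ ?_
    · intro a v
      rw [smul_dotProduct, mulVec_smul, dotProduct_smul, smul_eq_mul, smul_eq_mul]; ring
    · have hp : ∀ u v, QuadraticMap.polar (fun v : Fin n → F => v ⬝ᵥ (G *ᵥ v)) u v = 2 * (u ⬝ᵥ (G *ᵥ v)) := fun u v => by
        simp only [QuadraticMap.polar, add_dotProduct, mulVec_add, dotProduct_add, hswap u v]
        ring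
      have hb := matForm_bilinear (ι := Fin n) G
      exact ⟨fun x y v => by simp only [hp, hb.add_left]; ring, fun a x v => by simp only [hp, hb.smul_left]; ring,
        fun v x y => by simp only [hp, hb.add_right]; ring, fun a v x => by simp only [hp, hb.smul_right]; ring⟩
    · intro v hv
      obtain ⟨⟨x, hx⟩, ⟨y, hy⟩⟩ := hnd v hv
      refine ⟨⟨x, ?_⟩, ⟨y, ?_⟩⟩ <;>
        simp only [QuadraticMap.polar, add_dotProduct, mulVec_add, dotProduct_add] <;>
        [have hs := hswap x v; have hs := hswap v y] <;> intro h0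
      · exact mul_ne_zero h2 hx (by linear_combination h0 - hs)
      · exact mul_ne_zero h2 hy (by linear_combination h0 - hs)
    · rintro _ ⟨s, hs, rfl⟩ v
      exact hfix s hs v v
  · refine exists_member_symplectic hn hR.absIrr hR.normalised (f := fun u v => u ⬝ᵥ (G *ᵥ v))
      ⟨matForm_bilinear G, fun v w => by rw [hswap w v]; ring, fun v => ?_, hnd⟩
      (by rintro _ ⟨s, hs, rfl⟩ u v; exact hfix s hs u v)
    have h := hswap v v
    exact (mul_eq_zero.mp (show (2 : F) * (v ⬝ᵥ (G *ᵥ v)) = 0 by linear_combination h)).resolve_left h2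

/-- The class two case. -/
theorem class_two_member {n : ℕ} (hn : 3 ≤ n) {H N : Subgroup (GL (Fin n) F)}
    (hdet : H ≤ Cfsg.Geo.specialLinear (Fin n) F) (hH : Irr H) (hNH : N ≤ H) (hN : NormalisedBy H N)
    (hNabs : AbsIrr N) (hN2 : ⁅N, N⁆ ≤ Cfsg.Geo.scalars (Fin n) F)
    (hmin : ∀ M ≤ N, NormalisedBy H M → ¬ M ≤ Cfsg.Geo.scalars (Fin n) F → M = N) :
    ∃ M, Cfsg.Geo.InLinearClass n F M ∧ H ≤ M := by
  classical
  haveI : Nonempty (Fin n) := ⟨⟨0, by omega⟩⟩
  haveI : Finite (Matrix (Fin n) (Fin n) F) := Module.finite_of_finite F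
  haveI : Finite (GL (Fin n) F) := Finite.of_injective _ Units.val_injective
  obtain ⟨r, R, hR⟩ := exists_typeData hNH hN hNabs hN2 hmin (by rw [Fintype.card_fin]; omega)
  obtain ⟨c₁, hc₁⟩ := hR.root
  haveI : Fact r.Prime := ⟨hR.prime⟩
  by_cases hroot : ∃ ζ : F, IsPrimitiveRoot ζ (r * Nat.gcd 2 r)
  swap
  · -- then r = 2 and there is no fourth root of unity
    rcases hR.prime.eq_two_or_odd' with rfl | hodd
    · refine exists_member_of_no_root hn hR fun i hi => hroot ⟨i, ?_⟩
      rw [show (2 * Nat.gcd 2 2 : ℕ) = 2 ^ (1 + 1) from rfl]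
      refine IsPrimitiveRoot.iff_orderOf.mpr (orderOf_eq_prime_pow (fun h => ?_) (by
        rw [show (2 : ℕ) ^ (1 + 1) = 2 * 2 from rfl, pow_mul, hi]; ring))
      rw [pow_one, hi] at h
      have hc : (c₁ : F) ^ 2 = 1 := by rw [← Units.val_pow_eq_pow_val, ← hc₁, pow_orderOf_eq_one, Units.val_one]
      rcases sq_eq_one_iff.mp hc with h' | h'
      · rw [show c₁ = 1 from Units.ext h', orderOf_one] at hc₁; omega
      · rw [show c₁ = 1 from Units.ext (h'.trans h), orderOf_one] at hc₁; omega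
    · refine absurd ⟨(c₁ : F), ?_⟩ hroot
      rw [(Nat.coprime_two_left.mpr hodd).gcd_eq_one, mul_one]
      exact IsPrimitiveRoot.coe_units_iff.mpr (hc₁ ▸ IsPrimitiveRoot.orderOf c₁)
  obtain ⟨ζ, hζ⟩ := hroot
  obtain ⟨⟨B, hB⟩, hcenter, m, hnm, hcard⟩ := typeData_basis hR hζ
  rw [Fintype.card_fin] at hnm
  have hm1 : 1 ≤ m := by
    rcases Nat.eq_zero_or_pos m with h | h
    · rw [h, pow_zero] at hnm; omega
    · exact h
  set k := r * Nat.gcd 2 r with hk
  have hk0 : k ≠ 0 := Nat.mul_ne_zero hR.prime.ne_zero (Nat.gcd_pos_of_pos_left _ two_pos).ne'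
  haveI : NeZero k := ⟨hk0⟩
  obtain ⟨p, hchar⟩ := CharP.exists F
  have hp : p.Prime := CharP.char_is_prime F p
  haveI : Fact p.Prime := ⟨hp⟩
  obtain ⟨⟨e, he0⟩, -, he⟩ := FiniteField.card F p
  change Fintype.card F = p ^ e at he
  have hdiv : k ∣ p ^ e - 1 := by
    have h1 := FiniteField.pow_card_sub_one_eq_one ζ (hζ.ne_zero hk0)
    rw [he] at h1
    exact hζ.dvd_of_pow_eq_one _ h1
  by_cases hsub : ∃ d : ℕ, 0 < d ∧ d < e ∧ k ∣ p ^ d - 1
  · -- a subfield
    obtain ⟨d, hd0, hde, hd⟩ := hsub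
    have hg : k ∣ p ^ (Nat.gcd e d) - 1 := by
      rw [← Nat.pow_sub_one_gcd_pow_sub_one]; exact Nat.dvd_gcd hdiv hd
    obtain ⟨S, hS, hmem⟩ := exists_subfield_pow hp he (Nat.gcd_dvd_left e d) (Nat.gcd_pos_of_pos_left _ he0).ne'
    refine exists_member_subfield hR.absIrr hR.normalised (F₀ := S) (fun htop => ?_) ⟨B, ?_⟩
    · rw [htop, Nat.card_congr (Equiv.subtypeUnivEquiv fun x => Subfield.mem_top x), Nat.card_eq_fintype_card, he]
        at hS
      have h1 := Nat.pow_right_injective hp.two_le hS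
      have h2 := Nat.le_of_dvd hd0 (Nat.gcd_dvd_right e d)
      omega
    · rintro _ ⟨s, hs, rfl⟩
      refine (hB s hs).entry_mem fun a ha => hmem a ?_
      obtain ⟨j, hj⟩ := hg
      rw [show p ^ Nat.gcd e d = k * j + 1 by
        have := Nat.one_le_pow (Nat.gcd e d) p hp.pos; omega, pow_succ, pow_mul, ha, one_pow, one_mul]
  push Not at hsub
  have hrp : r ≠ p := by
    intro h
    have hne : (c₁ : F) ≠ 1 := fun h1 => by
      rw [show c₁ = 1 from Units.ext h1, orderOf_one] at hc₁; exact hR.prime.one_lt.ne hc₁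
    have hc : (c₁ : F) ^ p = 1 ^ p := by
      rw [one_pow, ← h, ← Units.val_pow_eq_pow_val, ← hc₁, pow_orderOf_eq_one, Units.val_one]
    exact hne (frobenius_inj F p hc)
  have hr2 : r = 2 → e ≤ 2 := by
    intro h2
    by_contra hgt
    refine hsub 2 two_pos (by omega) ?_
    have hodd : p % 2 = 1 := (hp.eq_two_or_odd.resolve_left fun h => hrp (h2.trans h.symm))
    rw [hk, h2, Nat.gcd_self]
    obtain ⟨u, hu⟩ : ∃ u, p = 2 * u + 1 := ⟨p / 2, by omega⟩
    exact ⟨u * (u + 1), by rw [hu, sq, show (2 * u + 1) * (2 * u + 1) = 2 * 2 * (u * (u + 1)) + 1 by ring, Nat.add_sub_cancel]⟩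
  rcases Nat.even_or_odd e with heven | hoe
  · -- a unitary form
    obtain ⟨d, hd⟩ := heven
    have hd0 : 0 < d := by omega
    have hsq : p ^ e = p ^ d * p ^ d := by rw [hd, pow_add]
    have hplus : k ∣ p ^ d + 1 := by
      rcases hR.prime.eq_two_or_odd' with h2 | hodd
      · have := hr2 h2
        obtain rfl : d = 1 := by omega
        have hodd : p % 2 = 1 := (hp.eq_two_or_odd.resolve_left fun h => hrp (h2.trans h.symm))
        have h4 : ¬ k ∣ p ^ 1 - 1 := hsub 1 one_pos (by omega)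
        rw [hk, h2, Nat.gcd_self, pow_one] at h4 ⊢
        change 4 ∣ p + 1
        change ¬ 4 ∣ p - 1 at h4
        omega
      · have hkr : k = r := by rw [hk, (Nat.coprime_two_left.mpr hodd).gcd_eq_one, mul_one]
        have h1 : p ^ e - 1 = (p ^ d + 1) * (p ^ d - 1) := by rw [hsq, ← Nat.sq_sub_sq, one_pow, sq]
        rw [hkr] at hdiv hsub ⊢
        rcases hR.prime.dvd_mul.mp (h1 ▸ hdiv) with h | h
        · exact h
        · exact absurd h (hsub d hd0 (by omega))
    let τ : F ≃+* F := iterateFrobeniusEquiv F p d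
    have hτ : ∀ a, τ a = a ^ p ^ d := fun a => iterateFrobeniusEquiv_def F p d a
    have hgood : ∀ a : F, a ^ k = 1 → a * τ a = 1 := fun a ha => by
      obtain ⟨j, hj⟩ := hplus
      rw [hτ, ← pow_succ', hj, pow_mul, ha, one_pow]
    have hinv : ∀ a, τ (τ a) = a := fun a => by
      rw [hτ, hτ, ← pow_mul, ← hsq, ← he]
      exact FiniteField.pow_card a
    have hne : τ ≠ RingEquiv.refl F := fun h => by
      have h1 := hgood ζ hζ.pow_eq_one
      rw [h, RingEquiv.refl_apply, ← sq] at h1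
      have h3 := Nat.le_of_dvd two_pos (hζ.dvd_of_pow_eq_one 2 h1)
      rcases hR.prime.eq_two_or_odd' with h2 | hodd
      · rw [hk, h2, Nat.gcd_self] at h3; omega
      · rw [hk, (Nat.coprime_two_left.mpr hodd).gcd_eq_one, mul_one] at h3
        obtain ⟨u, hu⟩ := hodd
        have := hR.prime.two_le
        omega
    refine exists_member_unitary hn hR.absIrr hR.normalised (diagForm_isUnitary B hne hinv) ?_
    rintro _ ⟨s, hs, rfl⟩ u v
    exact (hB s hs).isometry hgood u v
  -- the class of symplectic type groups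
  refine ⟨_, Or.inr (Or.inr (Or.inr (Or.inr (Or.inr (Or.inr (Or.inr (Or.inl
    ⟨r, R, ⟨hR.symplecticType, hR.absIrr, p, e, hrp, ⟨hp, hchar, he, hcenter ▸ hdiv, fun d h1 h2 => hcenter ▸ hsub d h1 h2⟩,
      ?_⟩, rfl⟩))))))), le_normalizer_of hR.normalised⟩
  rcases hR.prime.eq_two_or_odd' with h2 | hodd
  · have := hr2 h2
    obtain ⟨u, hu⟩ := hoe
    refine Or.inr (Or.inl ⟨h2, by omega, by rw [hcenter, hk, h2]; rfl, ?_, m, ?_⟩)
    · rw [Fintype.card_fin]
      subst h2
      have hm2 : 2 ≤ m := by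
        by_contra hlt
        obtain rfl : m = 1 := by omega
        omega
      rw [hnm]
      calc 4 = 2 ^ 2 := rfl
        _ ≤ 2 ^ m := Nat.pow_le_pow_right two_pos hm2
    · rw [hcard, hk, h2, Nat.gcd_self, pow_add, sq]
  · have hkr : k = r := by rw [hk, (Nat.coprime_two_left.mpr hodd).gcd_eq_one, mul_one]
    refine Or.inl ⟨hodd, hoe, by rw [hcenter, hkr], m, hm1, ?_⟩
    rw [hcard, hkr, pow_add, pow_one]

end CfsgLib.Techniques.AschGen
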